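import Cfsg.Agent.H91.Symp
import Cfsg.Agent.TitsThree.SpIdent

/-!
# The standard symplectic space as an `SForm` (helper91)
-/

set_option autoImplicit false

namespace Cfsg.Agent.H91.Symp

open Cfsg Cfsg.Agent.TitsThree Cfsg.Agent.TitsThree.SpIdent Cfsg.Agent.ClassicalGeometry.SympBasic

variable (m : ℕ) (F : Type*) [Field F]

/-- the standard symplectic form -/
def sB : LinearMap.BilinForm F (Fin m ⊕ Fin m → F) :=
  LinearMap.mk₂ F (sympForm m F) sympForm_add_left sympForm_smul_left sympForm_add_right
    (fun c v w => sympForm_smul_right c v w)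

@[simp] theorem sB_apply (v w : Fin m ⊕ Fin m → F) : sB m F v w = sympForm m F v w := rfl

theorem sform_sB : SForm (sB m F) := by
  have h1 : (sB m F).IsAlt := fun v => sympForm_self v
  refine ⟨?_, h1⟩
  refine (LinearMap.IsRefl.nondegenerate_iff_separatingLeft (B := sB m F) ?_).2 ?_
  · intro v w h
    rw [sB_apply] at h ⊢
    rw [sympForm_swap, h, neg_zero]
  · intro v h
    exact eq_zero_of_forall_sympForm_left fun w => by
      rw [sympForm_swap, ← sB_apply, h, neg_zero]

theorem isos_eq : isos (form m F) = Iso (sB m F) := by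
  ext g
  exact Iff.rfl

theorem finrank_std : Module.finrank F (Fin m ⊕ Fin m → F) = 2 * m := by
  rw [Module.finrank_fintype_fun_eq_card, Fintype.card_sum, Fintype.card_fin]
  ring

end Cfsg.Agent.H91.Symp
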