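import Cfsg.Agent.H91.FlagFun
import Cfsg.Agent.H783.SympSwap

/-!
# At most two orbits on totally isotropic lines (helper91)
-/

set_option autoImplicit false
set_option linter.unusedSectionVars false

namespace Cfsg.Agent.H91.Lines

open Symp Cfsg.Agent.H91.Flag FlagFun Module RankThree

variable {F V : Type*} [Field F] [Fintype F] [AddCommGroup V] [Module F V] [FiniteDimensional F V] [Fintype V]
  {B : LinearMap.BilinForm F V}

theorem ti_map {L : Submodule F V} (hL : TI B L) (g : Iso B) : TI B (L.map (g.1 : V →ₗ[F] V)) := by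
  rintro _ ⟨x, hx, rfl⟩ _ ⟨y, hy, rfl⟩
  exact (g.2 x y).trans (hL x hx y hy)

variable (B) in
/-- the totally isotropic lines -/
def TL : Type _ := {L : Submodule F V // finrank F L = 2 ∧ TI B L}

noncomputable instance instFintypeTL : Fintype (TL B) := by
  have : Finite (Submodule F V) := Finite.of_injective (fun L : Submodule F V => (L : Set V)) SetLike.coe_injective
  unfold TL
  exact Fintype.ofFinite _

noncomputable instance instMulActionTL : MulAction (Iso B) (TL B) where
  smul g L := ⟨L.1.map (g.1 : V →ₗ[F] V), (LinearEquiv.finrank_map_eq g.1 L.1).trans L.2.1, ti_map L.2.2 g⟩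
  one_smul L := Subtype.ext (by
    change L.1.map ((1 : V ≃ₗ[F] V) : V →ₗ[F] V) = L.1
    exact Submodule.map_id L.1)
  mul_smul g h L := Subtype.ext (by
    change L.1.map ((g.1 * h.1 : V ≃ₗ[F] V) : V →ₗ[F] V) = (L.1.map (h.1 : V →ₗ[F] V)).map (g.1 : V →ₗ[F] V)
    rw [← Submodule.map_comp]
    rfl)

theorem coe_smul (g : Iso B) (L : TL B) : (g • L).1 = L.1.map (g.1 : V →ₗ[F] V) := rfl

/-- all invariant kernels on lines are symmetric -/
theorem symm_of_inv (hB : SForm B) (A : Matrix (TL B) (TL B) ℝ) (hA : Inv (Iso B) A) : A.transpose = A := by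
  ext L L'
  rw [Matrix.transpose_apply]
  obtain ⟨g, hg, h1, h2⟩ := H783.SympSwap.exists_swap hB L.2.2 L'.2.2 L.2.1 L'.2.1
  have e1 : (⟨g, hg⟩ : Iso B) • L = L' := Subtype.ext h1
  have e2 : (⟨g, hg⟩ : Iso B) • L' = L := Subtype.ext h2
  have := hA ⟨g, hg⟩ L L'
  rwa [e1, e2] at this

theorem exists_basis2 {L : Submodule F V} (hL : finrank F L = 2) :
    ∃ u : Fin 2 → V, LinearIndependent F u ∧ Submodule.span F (Set.range u) = L := by
  let b : Basis (Fin 2) F L := finBasisOfFinrankEq F L hL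
  refine ⟨fun i => (b i : V), b.linearIndependent.map' L.subtype (Submodule.ker_subtype L), ?_⟩
  have h1 : Set.range (fun i => (b i : V)) = L.subtype '' Set.range b := by
    rw [← Set.range_comp]; rfl
  rw [h1, ← Submodule.map_span, b.span_eq, Submodule.map_subtype_top]

section Main

variable {X : Type*} [Fintype X] [MulAction (Iso B) X] [MulAction.IsPretransitive (Iso B) X] (x₀ : X) {r : X → ℝ}

/-- **There are no three orbits on totally isotropic lines.** -/
theorem not_three_lines [Nontrivial V] (hB : SForm B)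
    (h3 : Nat.card (MulAction.orbitRel.Quotient (MulAction.stabilizer (Iso B) x₀) X) ≤ 3) (hr : Orth B r)
    (hr0 : r ≠ 0) (L : Fin 3 → TL B)
    (hL : ∀ i j, (∃ g ∈ MulAction.stabilizer (Iso B) x₀, g • L i = L j) → i = j) : False := by
  classical
  have hRd := rd x₀ h3 hr hr0
  set K := MulAction.stabilizer (Iso B) x₀ with hK
  have hcardX : (Fintype.card X : ℝ) ≠ 0 := by
    have : Nonempty X := ⟨x₀⟩
    exact_mod_cast Fintype.card_ne_zero
  -- the kernels
  have key : ∀ i : Fin 3, ∃ (Fm : Matrix X (TL B) ℝ) (m : ℝ), Inv (Iso B) Fm ∧ Zc Fm ∧ Fm.transpose.mulVec r = 0 ∧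
      ∀ M, Fm x₀ M = (if ∃ g ∈ K, g • L i = M then 1 else 0) - m := by
    intro i
    let f : TL B → ℝ := fun M => if ∃ g ∈ K, g • L i = M then 1 else 0
    have hf : ∀ g ∈ K, ∀ M, f (g • M) = f M := by
      intro g hg M
      have h1 : (∃ g' ∈ K, g' • L i = g • M) ↔ ∃ g' ∈ K, g' • L i = M := by
        constructor
        · rintro ⟨g', hg', e⟩
          exact ⟨g⁻¹ * g', mul_mem (inv_mem hg) hg', by rw [mul_smul, e, inv_smul_smul]⟩
        · rintro ⟨g', hg', rfl⟩
          exact ⟨g * g', mul_mem hg hg', mul_smul _ _ _⟩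
      simp only [f, h1]
    obtain ⟨A, hA, hA0⟩ := exists_kernel x₀ hf
    have htr : ∀ M : TL B, ∃ g : Iso B, g • L i = M := by
      intro M
      obtain ⟨g, hg, h1, -⟩ := H783.SympSwap.exists_swap hB (L i).2.2 M.2.2 (L i).2.1 M.2.1
      exact ⟨⟨g, hg⟩, Subtype.ext h1⟩
    set m : ℝ := (∑ x, A x (L i)) / Fintype.card X with hm
    let Fm : Matrix X (TL B) ℝ := fun x M => A x M - m
    have hFi : Inv (Iso B) Fm := by
      intro g x M
      change A (g • x) (g • M) - m = A x M - m
      rw [hA]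
    refine ⟨Fm, m, hFi, ?_, ?_, fun M => ?_⟩
    · intro M
      obtain ⟨g, rfl⟩ := htr M
      have h1 : ∑ x, A x (g • L i) = ∑ x, A x (L i) := by
        rw [← Equiv.sum_comp (MulAction.toPerm g : Equiv.Perm X)]
        exact Finset.sum_congr rfl fun x _ => hA _ x _
      change ∑ x, (A x (g • L i) - m) = 0
      rw [Finset.sum_sub_distrib, h1, Finset.sum_const, Finset.card_univ, nsmul_eq_mul, hm, mul_div_cancel₀ _ hcardX,
        sub_self]
    · funext M
      rw [Matrix.mulVec, Pi.zero_apply]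
      change ∑ x, Fm x M * r x = 0
      obtain ⟨u, hu, hspan⟩ := exists_basis2 M.2.1
      refine hr 2 u (fun x => Fm x M) ⟨hu, fun a b => ?_⟩ fun g hg x => ?_
      · exact M.2.2 _ (by rw [← hspan]; exact Submodule.subset_span ⟨a, rfl⟩) _
          (by rw [← hspan]; exact Submodule.subset_span ⟨b, rfl⟩)
      · have h1 := hg 2
        rw [W_of_le u le_rfl, hspan] at h1
        have h2 : g • M = M := Subtype.ext h1
        have h3 := hFi g x M
        rwa [h2] at h3
    · change A x₀ M - m = _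
      rw [hA0]
  obtain ⟨F₀, m₀, hi0, hz0, hr00, he0⟩ := key 0
  obtain ⟨F₁, m₁, hi1, hz1, hr1, he1⟩ := key 1
  have hval : ∀ i j : Fin 3, (if ∃ g ∈ K, g • L i = L j then (1 : ℝ) else 0) = if i = j then 1 else 0 := by
    intro i j
    by_cases h : i = j
    · subst h
      rw [if_pos rfl, if_pos ⟨1, one_mem K, one_smul _ _⟩]
    · rw [if_neg h, if_neg fun h' => h (hL i j h')]
  have hne : F₀ ≠ 0 := by
    intro e
    have h1 := he0 (L 0)
    have h2 := he0 (L 1)
    rw [e, Matrix.zero_apply, hval] at h1 h2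
    rw [if_pos rfl] at h1
    rw [if_neg (by decide)] at h2
    linarith
  obtain ⟨c, hc⟩ := hRd.dep (symm_of_inv hB) hi0 hi1 hz0 hz1 hr00 hr1 hne
  have h1 : ∀ j : Fin 3, (if (1 : Fin 3) = j then (1 : ℝ) else 0) - m₁ = c * ((if (0 : Fin 3) = j then 1 else 0) - m₀) := by
    intro j
    rw [← hval, ← hval, ← he1, ← he0, hc, Matrix.smul_apply, smul_eq_mul]
  have e0 := h1 0
  have e1 := h1 1
  have e2 := h1 2
  rw [if_neg (by decide), if_pos rfl] at e0
  rw [if_pos rfl, if_neg (by decide)] at e1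
  rw [if_neg (by decide), if_neg (by decide)] at e2
  linarith

end Main

end Cfsg.Agent.H91.Lines
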