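import Cfsg.Agent.H667.HerAct
import Cfsg.Agent.H184.SpExt
import Cfsg.Agent.H91.Lines
import Cfsg.Agent.S0242
import Cfsg.Agent.S0245

/-!
# Hering's theorem for groups of isometries of a symplectic form (helper91)
-/

set_option autoImplicit false
set_option linter.unusedSectionVars false

namespace Cfsg.Agent.H91.HerCons

open Symp Cfsg.Agent.H91.Flag FlagFun Lines Module Cfsg.Agent.H667.HerFin

universe u

variable {F : Type*} {V : Type u} [Field F] [Fintype F] [AddCommGroup V] [Module F V] [FiniteDimensional F V]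
  [Fintype V] {B : LinearMap.BilinForm F V}

/-- the group as a group of permutations -/
def PH (K : Subgroup (Iso B)) : Subgroup (Equiv.Perm V) := K.map (MulAction.toPermHom (Iso B) V)

theorem mem_PH {K : Subgroup (Iso B)} {h : Equiv.Perm V} : h ∈ PH K ↔ ∃ g ∈ K, ∀ v, h v = g.1 v := by
  constructor
  · rintro ⟨g, hg, rfl⟩
    exact ⟨g, hg, fun v => rfl⟩
  · rintro ⟨g, hg, h1⟩
    exact ⟨g, hg, Equiv.ext fun v => (h1 v).symm⟩

/-- the group of linear maps -/
def KL (K : Subgroup (Iso B)) : Subgroup (V ≃ₗ[F] V) := K.map (Iso B).subtype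

theorem KL_le (K : Subgroup (Iso B)) : KL K ≤ Iso B := by
  rintro _ ⟨g, -, rfl⟩
  exact g.2

theorem mem_KL {K : Subgroup (Iso B)} {g : V ≃ₗ[F] V} : g ∈ KL K ↔ ∃ g' ∈ K, g'.1 = g := Iff.rfl

/-- three inequivalent lines -/
def ThreeLines (K : Subgroup (Iso B)) : Prop :=
  ∃ L : Fin 3 → TL B, ∀ i j, (∃ g ∈ K, g • L i = L j) → i = j

section Form

variable {E : Type} [Field E] [Fintype E] [Module E V] [Algebra F E] [IsScalarTower F E V]

theorem of_form (hB : SForm B) {k : ℕ} (hk : 3 ≤ k) (hV : finrank F V = 2 * k) (hq : Odd (Fintype.card F))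
    {K : Subgroup (Iso B)} (hK : K ≠ ⊤) {f : LinearMap.BilinForm E V} (hf : SForm f)
    (hiso : ∀ g : V ≃ₗ[E] V, (∀ u v, f (g u) (g v) = f u v) → ∃ h ∈ PH K, ∀ v, h v = g v)
    (hsem : ∀ h ∈ PH K, ∃ σ : E ≃+* E, ∃ μ : E, (∀ (c : E) (v : V), h (c • v) = σ c • h v) ∧
      ∀ u v, f (h u) (h v) = μ * σ (f u v)) : ThreeLines K := by
  have hnt : Nontrivial V := by
    have : 0 < finrank F V := by omega
    exact (Module.finrank_pos_iff (R := F)).1 this
  have hN : ∀ (u : V) (c : E), ∃ g ∈ KL K, ∀ x, g x = x + (c * f u x) • u := by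
    intro u c
    have h0 : (c • f u) u = 0 := by rw [LinearMap.smul_apply, hf.self, smul_zero]
    obtain ⟨h, hh, e⟩ := hiso (LinearEquiv.transvection h0) (by
      intro x y
      rw [LinearEquiv.transvection.apply, LinearEquiv.transvection.apply]
      simp only [map_add, map_smul, LinearMap.add_apply, LinearMap.smul_apply, smul_eq_mul, hf.self]
      rw [hf.swap x u]
      ring)
    obtain ⟨g, hg, e'⟩ := mem_PH.1 hh
    refine ⟨g.1, ⟨g, hg, rfl⟩, fun x => ?_⟩
    rw [← e', e, LinearEquiv.transvection.apply, LinearMap.smul_apply, smul_eq_mul]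
  have hsemi : ∀ g ∈ KL K, ∃ (σ : E ≃+* E) (ν : E), (∀ (c : E) v, g (c • v) = σ c • g v) ∧
      ∀ x y, f (g x) (g y) = ν * σ (f x y) := by
    rintro _ ⟨g, hg, rfl⟩
    obtain ⟨σ, μ, h1, h2⟩ := hsem (MulAction.toPermHom (Iso B) V g) ⟨g, hg, rfl⟩
    exact ⟨σ, μ, h1, h2⟩
  by_cases hE : 1 < finrank F E
  · obtain ⟨L, hL, h⟩ := H184.SpExt.three_orbits hB k hk hV hq hE f hf (KL K) (KL_le K) hN hsemi
    refine ⟨fun i => ⟨L i, hL i⟩, ?_⟩
    rintro i j ⟨g, hg, e⟩
    exact h i j ⟨g.1, ⟨g, hg, rfl⟩, congrArg Subtype.val e⟩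
  · exfalso
    apply hK
    have hfin : FiniteDimensional F E := Module.Finite.of_finite
    have hE1 : finrank F E = 1 := by
      have : 0 < finrank F E := Module.finrank_pos
      omega
    obtain ⟨ψ, hψ⟩ := H184.SpExt.exists_psi (F := F) (E := E) (B := B) (f' := f) hf (KL_le K) hN
    have hsc : ∀ t : E, ∃ s : F, t = s • (1 : E) := by
      intro t
      obtain ⟨s, hs⟩ := (finrank_eq_one_iff_of_nonzero' (1 : E) one_ne_zero).1 hE1 t
      exact ⟨s, hs.symm⟩
    have hψ1 : ψ 1 ≠ 0 := by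
      intro h0
      obtain ⟨x, hx⟩ := exists_ne (0 : V)
      apply hx
      refine hB.eq_zero fun y => ?_
      obtain ⟨s, hs⟩ := hsc (f x y)
      rw [hψ, hs, map_smul, h0, smul_zero]
    have hfB : ∀ x y, f x y = (B x y * (ψ 1)⁻¹) • (1 : E) := by
      intro x y
      obtain ⟨s, hs⟩ := hsc (f x y)
      rw [hψ, hs, map_smul, smul_eq_mul, mul_assoc, mul_inv_cancel₀ hψ1, mul_one]
    rw [eq_top_iff]
    intro g _
    have hlin : ∀ (c : E) (v : V), g.1 (c • v) = c • g.1 v := by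
      intro c v
      obtain ⟨s, rfl⟩ := hsc c
      rw [smul_assoc, one_smul, smul_assoc, one_smul, map_smul]
    let g' : V ≃ₗ[E] V := { g.1 with map_smul' := hlin }
    obtain ⟨h, hh, e⟩ := hiso g' (by
      intro x y
      rw [hfB, hfB]
      have : B (g' x) (g' y) = B x y := g.2 x y
      rw [this])
    obtain ⟨g₁, hg₁, e'⟩ := mem_PH.1 hh
    have : g₁ = g := by
      apply Subtype.ext
      ext v
      rw [← e', e]
      rfl
    rwa [← this]

/-- a plane has an alternating form -/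
theorem of_plane (hB : SForm B) {k : ℕ} (hk : 3 ≤ k) (hV : finrank F V = 2 * k) (hq : Odd (Fintype.card F))
    {K : Subgroup (Iso B)} (hK : K ≠ ⊤) (h2 : finrank E V = 2)
    (hdet : ∀ g : V ≃ₗ[E] V, LinearEquiv.det g = 1 → ∃ h ∈ PH K, ∀ v, h v = g v)
    (hsem : ∀ h ∈ PH K, ∃ σ : E ≃+* E, ∀ (c : E) (v : V), h (c • v) = σ c • h v) : ThreeLines K := by
  have hfdE : FiniteDimensional E V := H184.SpExt.finDim_E F
  let b : Basis (Fin 2) E V := finBasisOfFinrankEq E V h2
  let f : LinearMap.BilinForm E V := LinearMap.mk₂ E (fun x y => b.repr x 0 * b.repr y 1 - b.repr x 1 * b.repr y 0)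
    (by intro x x' y; simp only [map_add, Finsupp.add_apply]; ring)
    (by intro c x y; simp only [map_smul, Finsupp.smul_apply, smul_eq_mul]; ring)
    (by intro x y y'; simp only [map_add, Finsupp.add_apply]; ring)
    (by intro c x y; simp only [map_smul, Finsupp.smul_apply, smul_eq_mul]; ring)
  have hfe : ∀ x y, f x y = b.repr x 0 * b.repr y 1 - b.repr x 1 * b.repr y 0 := fun _ _ => rfl
  have halt : f.IsAlt := fun x => by rw [hfe]; ring
  have hb : ∀ i j, b.repr (b i) j = if i = j then 1 else 0 := fun i j => by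
    rw [b.repr_self, Finsupp.single_apply]
  have hnd : f.Nondegenerate := by
    refine (LinearMap.IsRefl.nondegenerate_iff_separatingLeft (B := f) ?_).2 ?_
    · intro x y h
      rw [hfe] at h ⊢
      linear_combination -h
    · intro x h
      have e0 := h (b 1)
      have e1 := h (b 0)
      rw [hfe, hb, hb] at e0 e1
      simp at e0 e1
      rw [← b.repr.map_eq_zero_iff]
      ext i
      fin_cases i
      · exact e0
      · exact e1
  have hf : SForm f := ⟨hnd, halt⟩
  have hfdet : ∀ x y, f x y = b.det ![x, y] := by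
    intro x y
    rw [hfe, Basis.det_apply, Matrix.det_fin_two]
    simp only [Basis.toMatrix_apply, Matrix.cons_val_zero, Matrix.cons_val_one]
    ring
  refine of_form hB hk hV hq hK hf ?_ ?_
  · intro g hg
    apply hdet
    have h1 : f (g (b 0)) (g (b 1)) = LinearMap.det (g : V →ₗ[E] V) * f (b 0) (b 1) := by
      rw [hfdet, hfdet, ← Basis.det_comp]
      congr 1
      funext i
      fin_cases i <;> rfl
    have h3 : f (b 0) (b 1) = 1 := by rw [hfe, hb, hb, hb, hb]; simp
    rw [hg, h3, mul_one] at h1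
    apply Units.ext
    rw [LinearEquiv.coe_det, ← h1]
    rfl
  · intro h hh
    obtain ⟨σ, hσ⟩ := hsem h hh
    have hadd : ∀ x y, h (x + y) = h x + h y := by
      obtain ⟨g, -, e⟩ := mem_PH.1 hh
      intro x y
      rw [e, e, e, map_add]
    refine ⟨σ, f (h (b 0)) (h (b 1)), hσ, fun u v => ?_⟩
    have hu : ∀ u, h u = σ (b.repr u 0) • h (b 0) + σ (b.repr u 1) • h (b 1) := by
      intro u
      conv_lhs => rw [← b.sum_repr u, Fin.sum_univ_two]
      rw [hadd, hσ, hσ]
    rw [hu u, hu v, hfe u v]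
    simp only [map_add, map_smul, LinearMap.add_apply, LinearMap.smul_apply, smul_eq_mul, hf.self, map_sub, map_mul]
    rw [hf.swap (h (b 1)) (h (b 0))]
    ring

end Form

/-- **the natural case** -/
theorem of_natOut (hB : SForm B) {k : ℕ} (hk : 3 ≤ k) (hV : finrank F V = 2 * k) (hq : Odd (Fintype.card F))
    {K : Subgroup (Iso B)} (hK : K ≠ ⊤) (h : NatOut F (Fintype.card F) (2 * k) (PH K)) : ThreeLines K := by
  obtain ⟨E, iE, iE', iM, φ, b, hφ, h2, -, -, hsem, hcase⟩ := h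
  let _ : Algebra F E := φ.toAlgebra
  have : IsScalarTower F E V := ⟨fun c e v => by
    rw [Algebra.smul_def, mul_smul, hφ]
    rfl⟩
  rcases hcase with h1 | ⟨f, ha, hn, h1, h3⟩ | ⟨h1, -⟩
  · rcases Nat.lt_or_ge 2 (finrank E V) with h3 | h3
    · exfalso
      refine H184.SpExt.not_SL hB (KL K) (KL_le K) h3 fun u φ' hu => ?_
      obtain ⟨h, hh, e⟩ := h1 (LinearEquiv.transvection hu) (by
        have hfdE : FiniteDimensional E V := H184.SpExt.finDim_E F
        exact LinearEquiv.transvection.det_eq_one hu)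
      obtain ⟨g, hg, e'⟩ := mem_PH.1 hh
      refine ⟨g.1, ⟨g, hg, rfl⟩, fun x => ?_⟩
      rw [← e', e, LinearEquiv.transvection.apply]
    · exact of_plane hB hk hV hq hK (le_antisymm h3 h2) h1 hsem
  · refine of_form hB hk hV hq hK ⟨hn, ha⟩ h1 fun h hh => ?_
    obtain ⟨σ, hσ⟩ := hsem h hh
    obtain ⟨μ, hμ⟩ := h3 h hh σ hσ
    exact ⟨σ, μ, hσ, hμ⟩
  · exfalso
    rw [Nat.odd_iff] at hq
    omega

/-! ### orders -/

theorem card_aut_pow (p : ℕ) [Fact p.Prime] (F' : Type*) [Field F'] [Fintype F'] [CharP F' p] :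
    p ^ Nat.card (F' ≃+* F') ≤ Fintype.card F' := by
  let _ : Algebra (ZMod p) F' := ZMod.algebra F' p
  have h1 : Nat.card (F' ≃+* F') ≤ Nat.card (F' ≃ₐ[ZMod p] F') := by
    have : Finite (F' ≃ₐ[ZMod p] F') := inferInstance
    refine Nat.card_le_card_of_injective (fun σ : F' ≃+* F' => (AlgEquiv.ofRingEquiv (f := σ) fun x => ?_ :
      F' ≃ₐ[ZMod p] F')) ?_
    · exact congrArg (fun f : ZMod p →+* F' => f x)
        (Subsingleton.elim ((σ : F' →+* F').comp (algebraMap (ZMod p) F')) (algebraMap (ZMod p) F'))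
    · intro σ τ h
      ext x
      exact congrArg (fun f : F' ≃ₐ[ZMod p] F' => f x) h
  have h2 : Nat.card (F' ≃ₐ[ZMod p] F') = finrank (ZMod p) F' := IsGalois.card_aut_eq_finrank (ZMod p) F'
  rw [← Nat.card_eq_fintype_card, Module.natCard_eq_pow_finrank (K := ZMod p) (V := F'), Nat.card_zmod, ← h2]
  exact Nat.pow_le_pow_right (Nat.Prime.pos Fact.out) h1

theorem card_le_of_concl {K : Subgroup (Iso B)} {k : ℕ} (hq : Odd (Fintype.card F))
    (h : ConclTwo (Fintype.card F) (2 * k) (PH K)) (hk : 3 ≤ k) :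
    3 * (Nat.card (PH K)) ^ 2 < (Fintype.card F ^ (2 * k)) ^ 3 := by
  obtain ⟨F', iF, iF', e, hcard, h⟩ := h
  obtain ⟨p, hp⟩ := CharP.exists F'
  have hpp : Fact p.Prime := ⟨CharP.char_is_prime F' p⟩
  set N := Fintype.card F' with hN
  set a := Nat.card (F' ≃+* F') with ha
  have h1 := card_aut_pow p F'
  rw [← hN, ← ha] at h1
  -- `|H| ≤ N a`
  have h2 : Nat.card (PH K) ≤ N * a := by
    choose c σ hcσ using h
    have : Finite (F' ≃+* F') := Finite.of_injective (fun σ : F' ≃+* F' => (σ : F' → F')) DFunLike.coe_injective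
    let φ : PH K → F' × (F' ≃+* F') := fun x => (c x.1 x.2, σ x.1 x.2)
    have hφ : Function.Injective φ := by
      intro x y hxy
      apply Subtype.ext
      ext v
      apply e.injective
      rw [hcσ x.1 x.2, hcσ y.1 y.2]
      rw [show c x.1 x.2 = c y.1 y.2 from congrArg Prod.fst hxy, show σ x.1 x.2 = σ y.1 y.2 from congrArg Prod.snd hxy]
    have h3 := Nat.card_le_card_of_injective φ hφ
    rwa [Nat.card_prod, Nat.card_eq_fintype_card (α := F')] at h3
  have hp3 : 3 ≤ p := by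
    have hp2 : p ≠ 2 := by
      rintro rfl
      have h4 : Odd N := by rw [hcard]; exact hq.pow
      obtain ⟨n, hn⟩ := h4
      have h5 : (N : F') = 0 := Nat.cast_card_eq_zero F'
      rw [hn] at h5
      push_cast at h5
      rw [show (2 : F') = ((2 : ℕ) : F') by norm_cast, CharP.cast_eq_zero, zero_mul, zero_add] at h5
      exact one_ne_zero h5
    have := hpp.out.two_le
    omega
  have h3 : 3 ^ a ≤ N := (Nat.pow_le_pow_left hp3 a).trans h1
  have hq3 : 3 ≤ Fintype.card F := by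
    have h1 : 1 < Fintype.card F := Fintype.one_lt_card
    obtain ⟨n, hn⟩ := hq
    omega
  have hNN : 3 ^ 6 ≤ N := by
    rw [hcard]
    calc 3 ^ 6 ≤ Fintype.card F ^ 6 := Nat.pow_le_pow_left hq3 6
      _ ≤ Fintype.card F ^ (2 * k) := Nat.pow_le_pow_right (by omega) (by omega)
  have h4 : 3 * a ^ 2 < N := by
    rcases Nat.lt_or_ge a 4 with h5 | h5
    · have : a ^ 2 ≤ 3 ^ 2 := Nat.pow_le_pow_left (by omega) 2
      omega
    · refine lt_of_lt_of_le ?_ h3
      have h6 : ∀ n, 4 ≤ n → 3 * n ^ 2 < 3 ^ n := by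
        intro n hn
        induction n, hn using Nat.le_induction with
        | base => norm_num
        | succ n hn ih =>
          rw [pow_succ 3 n]
          nlinarith
      exact h6 a h5
  rw [← hcard]
  calc 3 * (Nat.card (PH K)) ^ 2 ≤ 3 * (N * a) ^ 2 := Nat.mul_le_mul_left 3 (Nat.pow_le_pow_left h2 2)
    _ = N ^ 2 * (3 * a ^ 2) := by ring
    _ < N ^ 2 * N := Nat.mul_lt_mul_of_pos_left h4 (by positivity)
    _ = N ^ 3 := by ring

theorem card_SL_thirteen : Nat.card (Matrix.SpecialLinearGroup (Fin 2) (ZMod 13)) = 2184 := by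
  have : Fact (Nat.Prime 13) := ⟨by norm_num⟩
  have h := Cfsg.Agent.S0242.result (F := ZMod 13) (q := 13) (ZMod.card 13) 2 (by norm_num)
  rw [Fin.prod_univ_two] at h
  have h2 : (13 ^ 2 - 13 ^ ((0 : Fin 2) : ℕ)) * (13 ^ 2 - 13 ^ ((1 : Fin 2) : ℕ)) = 26208 := by decide
  rw [h2] at h
  exact Nat.eq_of_mul_eq_mul_left (by norm_num : 0 < 12) (h.trans (by norm_num))

theorem card_le_of_small {K : Subgroup (Iso B)} {k : ℕ} (hq : Odd (Fintype.card F))
    (h : Small (Fintype.card F) (2 * k) (PH K)) (hk : 3 ≤ k) :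
    3 * (Nat.card (PH K)) ^ 2 < (Fintype.card F ^ (2 * k)) ^ 3 := by
  rcases h with ⟨h, -⟩ | ⟨h, -⟩ | ⟨h, -⟩ | ⟨h, -⟩ | ⟨h1, h2, ⟨e⟩⟩ | ⟨-, h, -⟩
  · omega
  · omega
  · omega
  · omega
  · rw [Nat.card_congr e.toEquiv, card_SL_thirteen, h1, h2]
    norm_num
  · rw [h] at hq
    exact absurd hq (by decide)

/-- the order of the symplectic group -/
theorem pow_le_card (k : ℕ) (F : Type*) [Field F] [Fintype F] (hk : 3 ≤ k) :
    (Fintype.card F ^ (2 * k)) ^ 3 ≤ Nat.card (Matrix.symplecticGroup (Fin k) F) := by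
  set q := Fintype.card F with hq
  have hq1 : 2 ≤ q := Fintype.one_lt_card
  rw [Cfsg.Agent.S0245.result hq.symm k]
  have h1 : ∀ n : ℕ, q ^ (n ^ 2) ≤ ∏ i ∈ Finset.range n, (q ^ (2 * (i + 1)) - 1) := by
    intro n
    induction n with
    | zero => simp
    | succ n ih =>
      rw [Finset.prod_range_succ, show (n + 1) ^ 2 = n ^ 2 + (2 * n + 1) by ring, pow_add]
      refine Nat.mul_le_mul ih ?_
      have h2 : q ^ (2 * n + 1) * 2 ≤ q ^ (2 * (n + 1)) := by
        rw [show 2 * (n + 1) = 2 * n + 1 + 1 by ring, pow_succ q (2 * n + 1)]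
        exact Nat.mul_le_mul_left _ hq1
      have h3 : 0 < q ^ (2 * n + 1) := by positivity
      omega
  calc (q ^ (2 * k)) ^ 3 = q ^ (2 * k * 3) := (pow_mul _ _ _).symm
    _ ≤ q ^ (k ^ 2 + k ^ 2) := Nat.pow_le_pow_right (by omega) (by nlinarith)
    _ = q ^ (k ^ 2) * q ^ (k ^ 2) := pow_add _ _ _
    _ ≤ _ := Nat.mul_le_mul_left _ (h1 k)

end Cfsg.Agent.H91.HerCons
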