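import Cfsg.Agent.ChevalleyStructure.SparseEng
import Cfsg.Agent.ChevalleyStructure.Elts
import Cfsg.Prelude.Def_ChevE6
import Cfsg.Prelude.Def_ChevF4

/-!
# The Lie algebra of type `F₄` inside the Lie algebra of type `E₆`

`cI : chevE6.Idx → chevF4.Idx` is the orbit map (of the graph symmetry) on the index sets of the Chevalley bases.
`v ↦ v ∘ cI` is the embedding of the `F₄`-module into the `E₆`-module. `Rel g g'` : `g` and `g'` act compatibly. In
characteristic two it relates the generators `x_r(t)`, `x_r(t) x_{ρ r}(t)` of the fixed subgroup of the graph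
automorphism to the root elements of `F₄` for simple roots and their negatives.
-/

set_option autoImplicit false

namespace Cfsg.Agent.H91.E6F4Rel

open Cfsg.Lie Cfsg.Agent.ChevalleyStructure Cfsg.Agent.ChevalleyStructure.Elts
  Cfsg.Agent.ChevalleyStructure.SparseEng

universe u

/-- The orbit map on roots. -/
def orbL : List ℕ := [0, 1, 2, 3, 7, 3, 4, 8, 5, 9, 11, 6, 10, 12, 13, 14, 7, 8, 15, 9, 16, 18, 11, 18, 21, 23, 10,
  17, 19, 20, 12, 19, 22, 13, 20, 14, 33, 27, 34, 25, 28, 35, 27, 28, 30, 37, 24, 26, 29, 36, 29, 31, 38, 32, 39,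
  40, 33, 34, 35, 37, 41, 36, 38, 42, 39, 43, 44, 40, 44, 45, 46, 47]

def orb (r : ℕ) : ℕ := orbL.getD r 0

/-- The orbit map on nodes. -/
def nodL : List ℕ := [0, 3, 1, 2, 1, 0]

def nod (i : ℕ) : ℕ := nodL.getD i 0

/-- The orbit map on codes. -/
def cc (k : ℕ) : ℕ := if k < 6 then nod k else 4 + orb (k - 6)

/-- The fibres of the orbit map on codes. -/
def plL : List (List ℕ) := [[0, 5], [2, 4], [3], [1]] ++
  [[6], [7], [8], [9, 11], [12], [14], [17], [10, 22], [13, 23], [15, 25], [18, 32], [16, 28], [19, 36], [20, 39],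
   [21, 41], [24], [26], [33], [27, 29], [34, 37], [35, 40], [30], [38], [31], [52], [45], [53], [43, 48], [46, 49],
   [54, 56], [50], [57], [59], [42, 62], [44, 63], [47, 64], [55, 67], [51, 65], [58, 68], [60, 70], [61, 73],
   [66], [69], [71], [72, 74], [75], [76], [77]]

def pl (k : ℕ) : List ℕ := plL.getD k []

theorem orb_lt : ∀ r < 72, orb r < 48 := by decide +kernel
theorem nod_lt : ∀ i < 6, nod i < 4 := by decide +kernel
theorem mem_pl : ∀ k < 52, ∀ k' < 78, k' ∈ pl k ↔ cc k' = k := by decide +kernel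
theorem pl_nodup : ∀ k < 52, (pl k).Nodup := by decide +kernel

/-- The orbit map on the index sets. -/
def cI : chevE6.Idx → chevF4.Idx
  | Sum.inl i => Sum.inl ⟨nod i.val, nod_lt i.val i.isLt⟩
  | Sum.inr r => Sum.inr ⟨orb r.val, orb_lt r.val r.isLt⟩

theorem cI_surjective : Function.Surjective cI := by
  have h1 : ∀ i < 4, ∃ i' < 6, nod i' = i := by decide +kernel
  have h2 : ∀ i < 48, ∃ i' < 72, orb i' = i := by decide +kernel
  rintro (⟨i, hi⟩ | ⟨r, hr⟩)
  · obtain ⟨i', h, e⟩ := h1 i hi
    exact ⟨Sum.inl ⟨i', h⟩, by simp only [cI]; congr 2⟩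
  · obtain ⟨i', h, e⟩ := h2 r hr
    exact ⟨Sum.inr ⟨i', h⟩, by simp only [cI]; congr 2⟩

variable {K : Type u} [Field K]

theorem sum_ite_eq (a : ℕ) (L : List ℕ) (h : L.Nodup) :
    (L.map fun k' => if a = k' then (1 : K) else 0).sum = if a ∈ L then 1 else 0 := by
  induction L with
  | nil => simp
  | cons b L ih =>
    rw [List.map_cons, List.sum_cons, ih (List.nodup_cons.1 h).2]
    by_cases hab : a = b
    · subst hab
      simp [(List.nodup_cons.1 h).1]
    · simp [hab]

theorem bvec_comp (k : ℕ) : bvec chevF4 K k ∘ cI = ((pl k).map (bvec chevE6 K)).sum := by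
  by_cases hk : k < 52
  · ext row
    rw [sum_apply_list]
    rcases row with i | r
    · have h1 : (bvec chevF4 K k ∘ cI) (Sum.inl i) = if nod i.val = k then 1 else 0 := rfl
      have h2 : ((pl k).map fun a => bvec chevE6 K a (Sum.inl i)) =
          (pl k).map fun k' => if i.val = k' then (1 : K) else 0 := rfl
      have hi : i.val < 6 := i.isLt
      have h3 := mem_pl k hk i.val (by omega)
      have h4 : cc i.val = nod i.val := by unfold cc; rw [if_pos hi]
      rw [h1, h2, sum_ite_eq _ _ (pl_nodup k hk)]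
      simp only [h3, h4]
    · have h1 : (bvec chevF4 K k ∘ cI) (Sum.inr r) = if 4 + orb r.val = k then 1 else 0 := rfl
      have h2 : ((pl k).map fun a => bvec chevE6 K a (Sum.inr r)) =
          (pl k).map fun k' => if 6 + r.val = k' then (1 : K) else 0 := rfl
      have hi : r.val < 72 := r.isLt
      have h3 := mem_pl k hk (6 + r.val) (by omega)
      have h4 : cc (6 + r.val) = 4 + orb r.val := by
        unfold cc
        rw [if_neg (by omega), Nat.add_sub_cancel_left]
      rw [h1, h2, sum_ite_eq _ _ (pl_nodup k hk)]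
      simp only [h3, h4]
  · have h1 : pl k = [] := List.getD_eq_default _ _ (by
      have : plL.length = 52 := by decide
      omega)
    rw [h1, bvec_out (D := chevF4) k (by
      show 4 + 48 ≤ k
      omega)]
    rfl

/-- The image of a sparse vector. -/
def plT (l : List Term) : List Term := l.flatMap fun a => (pl a.k).map fun k' => ⟨k', a.c, a.i, a.j⟩

theorem ev_comp (l : List Term) (t s : K) : (ev chevF4 K l t s) ∘ cI = ev chevE6 K (plT l) t s := by
  induction l with
  | nil => rfl
  | cons a l ih =>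
    have h1 : plT (a :: l) = ((pl a.k).map fun k' => (⟨k', a.c, a.i, a.j⟩ : Term)) ++ plT l := rfl
    rw [h1, ev_append, ← ih, ev_cons]
    have h2 : (a.ev chevF4 K t s + ev chevF4 K l t s) ∘ cI = (a.ev chevF4 K t s) ∘ cI + (ev chevF4 K l t s) ∘ cI := rfl
    rw [h2]
    congr 1
    have h3 : (a.ev chevF4 K t s) ∘ cI = (((a.c : ℤ) : K) * t ^ a.i * s ^ a.j) • (bvec chevF4 K a.k ∘ cI) := rfl
    rw [h3, bvec_comp]
    generalize pl a.k = L
    induction L with
    | nil => simp [ev]
    | cons b L ihL =>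
      rw [List.map_cons, List.sum_cons, smul_add, ihL, List.map_cons, ev_cons]
      rfl

theorem ev_even [CharP K 2] (l : List Term) (h : (l.all fun a => decide (a.c % 2 = 0)) = true) (t s : K) :
    ev chevE6 K l t s = 0 := by
  induction l with
  | nil => rfl
  | cons a l ih =>
    rw [List.all_cons, Bool.and_eq_true, decide_eq_true_iff] at h
    rw [ev_cons, ih h.2, add_zero]
    unfold Term.ev
    obtain ⟨c, hc⟩ := Int.dvd_of_emod_eq_zero h.1
    have h2 : (2 : K) = 0 := by
      have := CharP.cast_eq_zero K 2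
      exact_mod_cast this
    rw [hc]
    push_cast
    rw [h2]
    simp

/-- The kernel-checked comparison of a word in `E₆` with a word in `F₄`. -/
def chk (w6 w4 : List (ℕ × Mon)) : Bool :=
  (List.range 52).all fun k =>
    (norm (actW chevE6 false w6 (plT [⟨k, 1, 0, 0⟩]) ++ plT (actW chevF4 false w4 [⟨k, 1, 0, 0⟩]))).all
      fun a => decide (a.c % 2 = 0)

/-- The intertwining relation. -/
def Rel (g : GL chevE6.Idx K) (g' : GL chevF4.Idx K) : Prop :=
  ∀ v : chevF4.Idx → K, (g : Matrix chevE6.Idx chevE6.Idx K).mulVec (v ∘ cI) =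
    ((g' : Matrix chevF4.Idx chevF4.Idx K).mulVec v) ∘ cI

theorem mulVec_ext (A : Matrix chevE6.Idx chevE6.Idx K) (B : Matrix chevF4.Idx chevF4.Idx K)
    (h : ∀ k < 52, A.mulVec (bvec chevF4 K k ∘ cI) = (B.mulVec (bvec chevF4 K k)) ∘ cI) (v : chevF4.Idx → K) :
    A.mulVec (v ∘ cI) = (B.mulVec v) ∘ cI := by
  let f : (chevF4.Idx → K) →ₗ[K] (chevE6.Idx → K) := (Matrix.mulVecLin A).comp (LinearMap.funLeft K K cI)
  let g : (chevF4.Idx → K) →ₗ[K] (chevE6.Idx → K) := (LinearMap.funLeft K K cI).comp (Matrix.mulVecLin B)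
  have hfg : f = g := by
    apply LinearMap.pi_ext'
    intro col
    apply LinearMap.ext_ring
    show A.mulVec (Pi.single col 1 ∘ cI) = (B.mulVec (Pi.single col 1)) ∘ cI
    rcases col with i | s
    · have hi : i.val < 4 := i.isLt
      have e : (Pi.single (Sum.inl i) 1 : chevF4.Idx → K) = bvec chevF4 K i.val := by
        ext row
        rcases row with j | s
        · simp only [bvec, Pi.single_apply, Sum.inl.injEq, Fin.ext_iff]
        · have h1 : chevF4.rank + s.val ≠ i.val := by
            have : chevF4.rank = 4 := rfl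
            omega
          simp [bvec, h1]
      rw [e]
      exact h _ (by omega)
    · have hs : s.val < 48 := s.isLt
      have hr : chevF4.rank = 4 := rfl
      have e : (Pi.single (Sum.inr s) 1 : chevF4.Idx → K) = bvec chevF4 K (4 + s.val) := by
        ext row
        rcases row with j | r
        · have h1 : j.val ≠ 4 + s.val := by
            have : j.val < 4 := j.isLt
            omega
          simp [bvec, h1]
        · have h1 : chevF4.rank + r.val = 4 + s.val ↔ r.val = s.val := by omega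
          simp only [bvec, Pi.single_apply, Sum.inr.injEq, Fin.ext_iff, h1]
      rw [e]
      exact h _ (by omega)
  exact congrArg (fun f : (chevF4.Idx → K) →ₗ[K] (chevE6.Idx → K) => f v) hfg

theorem rel_of_chk [CharP K 2] {w6 w4 : List (ℕ × Mon)} (h : chk w6 w4 = true) (t : K) (v : chevF4.Idx → K) :
    (chevE6.wordMat K (evW K w6 t 0)).mulVec (v ∘ cI) = ((chevF4.wordMat K (evW K w4 t 0)).mulVec v) ∘ cI := by
  refine mulVec_ext _ _ (fun k hk => ?_) v
  unfold chk at h
  rw [List.all_eq_true] at h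
  have h1 := h k (List.mem_range.2 hk)
  have h2 := ev_even (K := K) _ h1 t 0
  rw [ev_norm, ev_append, ← ev_comp, ev_actW _ _ _ _ _ (by simp), ev_actW _ _ _ _ _ (by simp), ev_single,
    ← ev_comp, ev_single] at h2
  have h3 := eq_neg_of_add_eq_zero_left h2
  rw [h3]
  have h4 : ∀ w : chevE6.Idx → K, -w = w := by
    intro w
    ext i
    exact CharTwo.neg_eq (w i)
  exact h4 _

/-- the letter `x_r(t)` -/
def ltr (r : ℕ) : ℕ × Mon := (r, ⟨1, 1, 0⟩)

/-- The orbits of the positive roots, and of the negatives of the simple roots. -/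
def orbits : List (List ℕ) := [[46], [39], [56, 36], [42, 37], [38, 57], [40, 43], [47], [41, 58], [44],
  [48, 50], [45, 59], [49, 61], [51], [52, 62], [53], [60], [54, 64], [63], [55, 67], [65], [66, 68],
  [69], [70], [71], [25], [32], [15, 35], [29, 34]]

set_option maxRecDepth 100000 in
theorem chk_all : (orbits.all fun o => chk (o.map ltr) [ltr (orb (o.getD 0 0))]) = true := by
  decide +kernel

theorem hF4 : InList chevF4 := by
  simp only [InList, List.mem_cons, true_or, or_true]

theorem hE6 : InList chevE6 := by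
  simp only [InList, List.mem_cons, true_or, or_true]

theorem evW_map (o : List ℕ) (t s : K) : evW K (o.map ltr) t s = o.map fun r => (r, t) := by
  unfold evW
  rw [List.map_map]
  apply List.map_congr_left
  intro r _
  show (r, (((1 : ℤ) : K) * t ^ 1 * s ^ 0)) = (r, t)
  simp

theorem rel_orbit [CharP K 2] {o : List ℕ} (ho : o ∈ orbits) (t : K) :
    Rel (wordG hE6 (o.map fun r => (r, t))) (xG hF4 (orb (o.getD 0 0)) t) := by
  have h := List.all_eq_true.1 chk_all o ho
  intro v
  have h1 := rel_of_chk (K := K) h t v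
  rw [evW_map, show ([ltr (orb (o.getD 0 0))] : List (ℕ × Mon)) = [orb (o.getD 0 0)].map ltr from rfl, evW_map] at h1
  rw [coe_wordG]
  have h2 : ((xG hF4 (orb (o.getD 0 0)) t : GL chevF4.Idx K) : Matrix chevF4.Idx chevF4.Idx K) =
      chevF4.wordMat K ([orb (o.getD 0 0)].map fun r => (r, t)) := by
    rw [List.map_cons, List.map_nil, wordMat_cons, wordMat_nil, mul_one]
    rfl
  rw [h2]
  exact h1

/-! ### The relation as a subgroup -/

theorem Rel.one : Rel (1 : GL chevE6.Idx K) (1 : GL chevF4.Idx K) := by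
  intro v
  rw [Units.val_one, Units.val_one, Matrix.one_mulVec, Matrix.one_mulVec]

theorem Rel.mul {g h : GL chevE6.Idx K} {g' h' : GL chevF4.Idx K} (h1 : Rel g g') (h2 : Rel h h') :
    Rel (g * h) (g' * h') := by
  intro v
  rw [Units.val_mul, Units.val_mul, ← Matrix.mulVec_mulVec, ← Matrix.mulVec_mulVec, h2, h1]

theorem Rel.inv {g : GL chevE6.Idx K} {g' : GL chevF4.Idx K} (h : Rel g g') : Rel g⁻¹ g'⁻¹ := by
  intro v
  have h1 := h ((g'⁻¹ : GL chevF4.Idx K).1.mulVec v)
  have h2 : (g' : Matrix chevF4.Idx chevF4.Idx K).mulVec ((g'⁻¹ : GL chevF4.Idx K).1.mulVec v) = v := by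
    rw [Matrix.mulVec_mulVec, ← Units.val_mul, mul_inv_cancel, Units.val_one, Matrix.one_mulVec]
  rw [h2] at h1
  rw [← h1, Matrix.mulVec_mulVec, ← Units.val_mul, inv_mul_cancel, Units.val_one, Matrix.one_mulVec]

theorem Rel.unique {g : GL chevE6.Idx K} {g' h' : GL chevF4.Idx K} (h1 : Rel g g') (h2 : Rel g h') : g' = h' := by
  apply Units.ext
  apply Matrix.ext_of_mulVec_single
  intro i
  have h3 := (h1 (Pi.single i 1)).symm.trans (h2 (Pi.single i 1))
  funext j
  obtain ⟨k, rfl⟩ := cI_surjective j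
  exact congrFun h3 k

/-- The elements of `GL` over `E₆` related to an element of `S`. -/
def relPre (S : Subgroup (GL chevF4.Idx K)) : Subgroup (GL chevE6.Idx K) where
  carrier := {g | ∃ g' ∈ S, Rel g g'}
  mul_mem' := by
    rintro a b ⟨a', ha, h1⟩ ⟨b', hb, h2⟩
    exact ⟨a' * b', S.mul_mem ha hb, h1.mul h2⟩
  one_mem' := ⟨1, S.one_mem, Rel.one⟩
  inv_mem' := by
    rintro a ⟨a', ha, h1⟩
    exact ⟨a'⁻¹, S.inv_mem ha, h1.inv⟩

theorem mem_relPre {S : Subgroup (GL chevF4.Idx K)} {g : GL chevE6.Idx K} :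
    g ∈ relPre S ↔ ∃ g' ∈ S, Rel g g' := Iff.rfl

/-- The elements of `GL` over `F₄` related to an element of `S`. -/
def relPost (S : Subgroup (GL chevE6.Idx K)) : Subgroup (GL chevF4.Idx K) where
  carrier := {g' | ∃ g ∈ S, Rel g g'}
  mul_mem' := by
    rintro a b ⟨a', ha, h1⟩ ⟨b', hb, h2⟩
    exact ⟨a' * b', S.mul_mem ha hb, h1.mul h2⟩
  one_mem' := ⟨1, S.one_mem, Rel.one⟩
  inv_mem' := by
    rintro a ⟨a', ha, h1⟩
    exact ⟨a'⁻¹, S.inv_mem ha, h1.inv⟩

end Cfsg.Agent.H91.E6F4Rel
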