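import Cfsg.Agent.H91.E6Fix
import Cfsg.Agent.H91.E6F4Rel
import Cfsg.Agent.H79.SimpleGen

/-!
# `F₄(K)` as the fixed subgroup of the graph automorphism of `E₆(K)`, characteristic two

`exists_equiv` : for a finite field `K` of characteristic two `twistedE6 K 1` (the subgroup of `E₆(K)` fixed by the
graph automorphism) is isomorphic to `chevF4.group K`.
-/

set_option autoImplicit false

namespace Cfsg.Agent.H91.E6F4Iso

open Cfsg.Lie Cfsg.Agent.ChevalleyStructure Cfsg.Agent.ChevalleyStructure.Elts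
  Cfsg.Agent.ChevalleyStructure.BruhatSplit Cfsg.Agent.ChevalleyStructure.RootCombGood
  Cfsg.Agent.ChevalleyStructure.RootWord Cfsg.Agent.H91.E6F4Rel
  Cfsg.Agent.H91.MonoWord Cfsg.Agent.ChevalleyStructure.TorusCount
  Cfsg.Agent.ChevalleyStructure.TwistedU Cfsg.Agent.ChevalleyStructure.TwistedFix
  Cfsg.Agent.ChevalleyStructure.TwistedFixOrbit

universe u

variable {K : Type u} [Field K]

theorem hid : ∀ t : K, RingHom.id K t = t ^ 1 := fun t => by rw [pow_one]; rfl

theorem hidid : ∀ t : K, RingHom.id K (RingHom.id K t) = t := fun _ => rfl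

theorem hqq : ∀ t : K, (t ^ 1) ^ 1 = t := fun t => by rw [pow_one, pow_one]

/-- The data of the (B,N)-pair of `twistedE6 K 1`. -/
noncomputable def T (K : Type u) [Field K] := TwE6BN.T (RingHom.id K) 1 hid hqq

variable [CharP K 2]

theorem rel_single {r : ℕ} (hr : [r] ∈ orbits) (t : K) : Rel (xG hE6 r t) (xG hF4 (orb r) t) := by
  have h := rel_orbit hr t
  rw [List.map_cons, List.map_nil, wordG_cons, wordG_nil, mul_one] at h
  exact h

theorem rel_pair {r s : ℕ} (hr : [r, s] ∈ orbits) (t : K) :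
    Rel (xG hE6 r t * xG hE6 s t) (xG hF4 (orb r) t) := by
  have h := rel_orbit hr t
  rw [List.map_cons, List.map_cons, List.map_nil, wordG_cons, wordG_cons, wordG_nil, mul_one] at h
  exact h

/-! ### The unipotent part -/

theorem orbit_forms : ∀ o ∈ TwistedE6U.L, o ∈ orbits ∧ ((∃ r, o = [r] ∧ chevF4.IsPosRoot (orb r)) ∨
    (∃ r s, o = [r, s] ∧ TwistedE6Sigma.rho r = s ∧ chevF4.IsPosRoot (orb r))) := by
  have h : ∀ o ∈ TwistedE6U.L, o ∈ orbits ∧ ((o = [o.getD 0 0] ∧ chevF4.IsPosRoot (orb (o.getD 0 0))) ∨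
    (o = [o.getD 0 0, o.getD 1 0] ∧ TwistedE6Sigma.rho (o.getD 0 0) = o.getD 1 0 ∧
      chevF4.IsPosRoot (orb (o.getD 0 0)))) := by decide +kernel
  intro o ho
  obtain ⟨h1, h2⟩ := h o ho
  refine ⟨h1, ?_⟩
  rcases h2 with h2 | h2
  · exact Or.inl ⟨_, h2⟩
  · exact Or.inr ⟨_, _, h2⟩

theorem eps_cast {r : ℕ} (hr : r < 72) : ((TwistedE6Sigma.eps r : ℤ) : K) = 1 := by
  have h := TwistedE6Sigma.eps_sq r hr
  rcases Int.eq_one_or_neg_one_of_mul_eq_one h with h | h
  · rw [h, Int.cast_one]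
  · rw [h, Int.cast_neg, Int.cast_one, CharTwo.neg_eq]

theorem pos_le [Fintype K] : chevE6.posUnipotent K ⊓ twistedE6 K 1 ≤ relPre (chevF4.posUnipotent K) := by
  rw [TwistedE6Rel.posUnipotent_inf_eq (φ := RingHom.id K) hid hidid]
  refine (TwistedE6U.setup (RingHom.id K)).fix_le fun o ho => ?_
  intro g hg
  obtain ⟨t, ht, rfl⟩ := orbit_coords (TwistedE6U.setup (RingHom.id K)) ho (TwistedE6Rel.L_orbit_nodup _ ho)
    (TwistedE6Rel.L_filter _ ho) hg
  obtain ⟨h1, h2⟩ := orbit_forms o ho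
  rcases h2 with ⟨r, rfl, hp⟩ | ⟨r, s, rfl, hrs, hp⟩
  · have h3 : lprod (TwistedE6U.X (K := K)) [r] t = xG hE6 r (t r) := by
      rw [lprod_cons, lprod_nil, mul_one]
    rw [h3]
    exact ⟨_, xG_mem_posUnipotent hF4 hp (t r), rel_single h1 (t r)⟩
  · have h3 : lprod (TwistedE6U.X (K := K)) [r, s] t = xG hE6 r (t r) * xG hE6 s (t s) := by
      rw [lprod_cons, lprod_cons, lprod_nil, mul_one]
    have h4 := ht r List.mem_cons_self
    have hr : r < 72 := TwistedE6U.L_lt r (List.mem_flatten.2 ⟨_, ho, List.mem_cons_self⟩)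
    rw [hrs, eps_cast hr, one_mul] at h4
    have h5 : t s = t r := h4
    rw [h3, h5]
    exact ⟨_, xG_mem_posUnipotent hF4 hp (t r), rel_pair h1 (t r)⟩

/-! ### Words in opposite root elements -/

/-- letters of `F₄` -/
noncomputable def f4 (m m' : ℕ) (l : Bool × K) : GL chevF4.Idx K := if l.1 then xG hF4 m l.2 else xG hF4 m' l.2

omit [CharP K 2] in
theorem f4_nw {m m' : ℕ} (hm : chevF4.neg m = m') (t : K) :
    ((E6Fixed.nw t).map (f4 m m')).prod = nG hF4 m t := by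
  subst hm
  rw [nG_def]
  show xG hF4 m t * (xG hF4 (chevF4.neg m) (-t⁻¹) * (xG hF4 m t * 1)) = _
  rw [mul_one]

omit [CharP K 2] in
theorem rel_map {f : Bool × K → GL chevE6.Idx K} {g : Bool × K → GL chevF4.Idx K} (h : ∀ l, Rel (f l) (g l))
    (w : List (Bool × K)) : Rel (w.map f).prod (w.map g).prod := by
  induction w with
  | nil => exact Rel.one
  | cons a w ih =>
    rw [List.map_cons, List.map_cons, List.prod_cons, List.prod_cons]
    exact (h a).mul ih

omit [CharP K 2] in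
theorem rel_nG_single {r m m' : ℕ} (h1 : ∀ t : K, Rel (xG hE6 r t) (xG hF4 m t))
    (h2 : ∀ t : K, Rel (xG hE6 (chevE6.neg r) t) (xG hF4 m' t)) (hm : chevF4.neg m = m') (t : K) :
    Rel (nG hE6 r t) (nG hF4 m t) := by
  subst hm
  rw [nG_def, nG_def]
  exact (h1 t).mul ((h2 _).mul (h1 t))

omit [CharP K 2] in
theorem rel_nG_pair {r s r' s' m m' : ℕ} (p1 : (r, s) ∈ E6Comm.pairs) (p2 : (r, s') ∈ E6Comm.pairs)
    (p3 : (r', s) ∈ E6Comm.pairs) (p4 : (r', s') ∈ E6Comm.pairs)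
    (hr : chevE6.neg r = r') (hs : chevE6.neg s = s') (hm : chevF4.neg m = m')
    (h1 : ∀ t : K, Rel (xG hE6 r t * xG hE6 s t) (xG hF4 m t))
    (h2 : ∀ t : K, Rel (xG hE6 r' t * xG hE6 s' t) (xG hF4 m' t)) (t : K) :
    Rel (nG hE6 r t * nG hE6 s t) (nG hF4 m t) := by
  have e := E6Fixed.n_eq (RingHom.id K) p1 p2 p3 p4 hr hs t
  rw [← f4_nw hm]
  have e2 : nG hE6 r t * nG hE6 s t = nG hE6 r t * nG hE6 s (RingHom.id K t) := rfl
  have h3 : ∀ l : Bool × K, Rel (E6Fixed.ZZ (RingHom.id K) r s r' s' l) (f4 m m' l) := by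
    rintro ⟨_ | _, a⟩
    · exact h2 a
    · exact h1 a
  have h4 := rel_map h3 (E6Fixed.nw t)
  rw [e2]
  exact e ▸ h4

theorem neg_F4 : chevF4.neg 33 = 14 ∧ chevF4.neg 27 = 20 ∧ chevF4.neg 25 = 22 ∧ chevF4.neg 24 = 23 := by
  decide +kernel

theorem neg_E6 : chevE6.neg 46 = 25 ∧ chevE6.neg 39 = 32 := by decide +kernel

theorem rel_n46 (t : K) : Rel (nG hE6 46 t) (nG hF4 24 t) :=
  rel_nG_single (fun t => rel_single (r := 46) (by decide) t)
    (fun t => by rw [neg_E6.1]; exact rel_single (r := 25) (by decide) t) neg_F4.2.2.2 t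

theorem rel_n39 (t : K) : Rel (nG hE6 39 t) (nG hF4 25 t) :=
  rel_nG_single (fun t => rel_single (r := 39) (by decide) t)
    (fun t => by rw [neg_E6.2]; exact rel_single (r := 32) (by decide) t) neg_F4.2.2.1 t

theorem rel_n35 (t : K) : Rel (nG hE6 42 t * nG hE6 37 t) (nG hF4 27 t) :=
  rel_nG_pair (r' := 29) (s' := 34) (by decide) (by decide) (by decide) (by decide) rfl rfl neg_F4.2.1
    (fun t => rel_pair (r := 42) (s := 37) (by decide) t) (fun t => rel_pair (r := 29) (s := 34) (by decide) t) t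

theorem rel_n16 (t : K) : Rel (nG hE6 56 t * nG hE6 36 t) (nG hF4 33 t) :=
  rel_nG_pair (r' := 15) (s' := 35) (by decide) (by decide) (by decide) (by decide) rfl rfl neg_F4.1
    (fun t => rel_pair (r := 56) (s := 36) (by decide) t) (fun t => rel_pair (r := 15) (s := 35) (by decide) t) t


omit [CharP K 2] in
theorem f4_nw2 {m m' : ℕ} (hm : chevF4.neg m = m') (t : K) :
    ((E6Fixed.nw t ++ E6Fixed.nw (-1)).map (f4 m m')).prod = hG hF4 m t := by
  rw [List.map_append, List.prod_append, f4_nw hm, f4_nw hm, hG_def]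

omit [CharP K 2] in
theorem rel_hG_single {r m : ℕ} (h : ∀ t : K, Rel (nG hE6 r t) (nG hF4 m t)) (t : K) :
    Rel (hG hE6 r t) (hG hF4 m t) := by
  rw [hG_def, hG_def]
  exact (h t).mul (h _)

omit [CharP K 2] in
theorem rel_hG_pair {r s r' s' m m' : ℕ} (p1 : (r, s) ∈ E6Comm.pairs) (p2 : (r, s') ∈ E6Comm.pairs)
    (p3 : (r', s) ∈ E6Comm.pairs) (p4 : (r', s') ∈ E6Comm.pairs)
    (hr : chevE6.neg r = r') (hs : chevE6.neg s = s') (hm : chevF4.neg m = m')
    (h1 : ∀ t : K, Rel (xG hE6 r t * xG hE6 s t) (xG hF4 m t))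
    (h2 : ∀ t : K, Rel (xG hE6 r' t * xG hE6 s' t) (xG hF4 m' t)) (t : K) :
    Rel (hG hE6 r t * hG hE6 s t) (hG hF4 m t) := by
  have e := E6Fixed.h_eq (RingHom.id K) p1 p2 p3 p4 hr hs t
  rw [← f4_nw2 hm]
  have e2 : hG hE6 r t * hG hE6 s t = hG hE6 r t * hG hE6 s (RingHom.id K t) := rfl
  have h3 : ∀ l : Bool × K, Rel (E6Fixed.ZZ (RingHom.id K) r s r' s' l) (f4 m m' l) := by
    rintro ⟨_ | _, a⟩
    · exact h2 a
    · exact h1 a
  have h4 := rel_map h3 (E6Fixed.nw t ++ E6Fixed.nw (-1))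
  rw [e2]
  exact e ▸ h4

theorem rel_h35 (t : K) : Rel (hG hE6 42 t * hG hE6 37 t) (hG hF4 27 t) :=
  rel_hG_pair (r' := 29) (s' := 34) (by decide) (by decide) (by decide) (by decide) rfl rfl neg_F4.2.1
    (fun t => rel_pair (r := 42) (s := 37) (by decide) t) (fun t => rel_pair (r := 29) (s := 34) (by decide) t) t

theorem rel_h16 (t : K) : Rel (hG hE6 56 t * hG hE6 36 t) (hG hF4 33 t) :=
  rel_hG_pair (r' := 15) (s' := 35) (by decide) (by decide) (by decide) (by decide) rfl rfl neg_F4.1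
    (fun t => rel_pair (r := 56) (s := 36) (by decide) t) (fun t => rel_pair (r := 15) (s := 35) (by decide) t) t

/-! ### The torus -/

theorem torus_mem (c : ↥(E6H1.fixT (RingHom.id K))) :
    torusHom chevE6 K c.1 ∈ relPre (chevF4.diagonalSubgroup K) := by
  have hA : TorusRange.SimpleDiag chevE6 K := FieldFix.simpleDiag hE6 K
  rw [E6H1.prod_mulSingle c.1, map_mul, map_mul, map_mul, map_mul, map_mul]
  simp only [E6H1.hG_eq_torusHom hA]
  have e5 : (c.1 (E6H1.ix 5) : K) = c.1 (E6H1.ix 0) := congrArg Units.val (E6H1.fixT_5 c)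
  have e4 : (c.1 (E6H1.ix 4) : K) = c.1 (E6H1.ix 2) := congrArg Units.val (E6H1.fixT_4 c)
  have s0 : chevE6.simple (E6H1.ix 0) = 56 := rfl
  have s1 : chevE6.simple (E6H1.ix 1) = 46 := rfl
  have s2 : chevE6.simple (E6H1.ix 2) = 42 := rfl
  have s3 : chevE6.simple (E6H1.ix 3) = 39 := rfl
  have s4 : chevE6.simple (E6H1.ix 4) = 37 := rfl
  have s5 : chevE6.simple (E6H1.ix 5) = 36 := rfl
  rw [e5, e4, s0, s1, s2, s3, s4, s5]
  have hne : ∀ i, (c.1 i : K) ≠ 0 := fun i => (c.1 i).ne_zero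
  have lt33 : 33 < chevF4.nroots := by decide
  have lt27 : 27 < chevF4.nroots := by decide
  have lt25 : 25 < chevF4.nroots := by decide
  have lt24 : 24 < chevF4.nroots := by decide
  exact mul_mem (mul_mem ⟨_, hG_mem_diagonal hF4 lt33 (hne _), rel_h16 _⟩ ⟨_, hG_mem_diagonal hF4 lt27 (hne _), rel_h35 _⟩)
    (mul_mem ⟨_, hG_mem_diagonal hF4 lt24 (hne _), rel_hG_single rel_n46 _⟩
      ⟨_, hG_mem_diagonal hF4 lt25 (hne _), rel_hG_single rel_n39 _⟩)

theorem diag_le : chevE6.diagonalSubgroup K ⊓ twistedE6 K 1 ≤ relPre (chevF4.diagonalSubgroup K) := by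
  rintro g ⟨hg, hgt⟩
  have hfix := TwE6Basic.twisted_le_fix (RingHom.id K) hid hqq hgt
  obtain ⟨c, rfl⟩ := FieldFix.exists_torusHom hE6 hg
  obtain ⟨c', h1, h2⟩ := E6H1.exists_fixed (RingHom.id K) hidid (c := c) hfix
  rw [← h2]
  exact torus_mem ⟨c', h1⟩

/-! ### The monomial part -/

theorem simple_F4 : chevF4.simple 0 = 33 ∧ chevF4.simple 1 = 27 ∧ chevF4.simple 2 = 25 ∧ chevF4.simple 3 = 24 := by
  decide +kernel

/-- The node of `F₄` of a relative reflection. -/
def nd (i : Fin 4) : ℕ := 3 - i.val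

theorem nd_lt (i : Fin 4) : nd i < 4 := by unfold nd; omega

theorem orb_wact : ∀ i : Fin 4, ∀ r < 72, orb (wact chevE6 (TwE6Basic.J i) r) = wact chevF4 [nd i] (orb r) := by
  decide +kernel

theorem rel_n (i : Fin 4) : Rel (TwE6Basic.n (K := K) i) (nG hF4 (chevF4.simple (nd i)) 1) := by
  have h : i = 0 ∨ i = 1 ∨ i = 2 ∨ i = 3 := by fin_cases i <;> simp
  rcases h with rfl | rfl | rfl | rfl
  · have e : TwE6Basic.n (K := K) 0 = nG hE6 46 1 := TwE6BN.single0.Jn K
    have e2 : chevF4.simple (nd 0) = 24 := simple_F4.2.2.2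
    rw [e, e2]
    exact rel_n46 1
  · have e : TwE6Basic.n (K := K) 1 = nG hE6 39 1 := TwE6BN.single1.Jn K
    have e2 : chevF4.simple (nd 1) = 25 := simple_F4.2.2.1
    rw [e, e2]
    exact rel_n39 1
  · have e : TwE6Basic.n (K := K) 2 = nG hE6 42 1 * nG hE6 37 1 := TwE6BN.pair2.Jn K
    have e2 : chevF4.simple (nd 2) = 27 := simple_F4.2.1
    rw [e, e2]
    exact rel_n35 1
  · have e : TwE6Basic.n (K := K) 3 = nG hE6 56 1 * nG hE6 36 1 := TwE6BN.pair3.Jn K
    have e2 : chevF4.simple (nd 3) = 33 := simple_F4.1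
    rw [e, e2]
    exact rel_n16 1

/-- `n` and its partner act compatibly on the roots. -/
structure NRel (n : GL chevE6.Idx K) (n' : GL chevF4.Idx K) (w w' : List ℕ) : Prop where
  rel : Rel n n'
  mem : n ∈ chevE6.monomialSubgroup K
  mem' : n' ∈ chevF4.monomialSubgroup K
  lt : ∀ a ∈ w, a < chevE6.rank
  lt' : ∀ a ∈ w', a < chevF4.rank
  acts : BruhatSplit.Acts n w
  acts' : BruhatSplit.Acts n' w'
  orb : ∀ r < 72, orb (wact chevE6 w r) = wact chevF4 w' (orb r)


omit [CharP K 2] in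
theorem NRel.mul {n m : GL chevE6.Idx K} {n' m' : GL chevF4.Idx K} {w v w' v' : List ℕ} (h1 : NRel n n' w w')
    (h2 : NRel m m' v v') : NRel (n * m) (n' * m') (w ++ v) (w' ++ v') where
  rel := h1.rel.mul h2.rel
  mem := Subgroup.mul_mem _ h1.mem h2.mem
  mem' := Subgroup.mul_mem _ h1.mem' h2.mem'
  lt a ha := (List.mem_append.1 ha).elim (h1.lt a) (h2.lt a)
  lt' a ha := (List.mem_append.1 ha).elim (h1.lt' a) (h2.lt' a)
  acts := BruhatSplit.Acts.mul (RootComb.good_of_mem hE6) h1.acts h2.acts h2.lt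
  acts' := BruhatSplit.Acts.mul (RootComb.good_of_mem hF4) h1.acts' h2.acts' h2.lt'
  orb r hr := by
    have h3 : wact chevE6 v r < 72 := wact_lt (RootComb.good_of_mem hE6) h2.lt hr
    rw [wact_append, wact_append, h1.orb _ h3, h2.orb r hr]

omit [CharP K 2] in
theorem NRel.inv {n : GL chevE6.Idx K} {n' : GL chevF4.Idx K} {w w' : List ℕ} (h1 : NRel n n' w w') :
    NRel n⁻¹ n'⁻¹ w.reverse w'.reverse where
  rel := h1.rel.inv
  mem := Subgroup.inv_mem _ h1.mem
  mem' := Subgroup.inv_mem _ h1.mem'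
  lt a ha := h1.lt a (List.mem_reverse.1 ha)
  lt' a ha := h1.lt' a (List.mem_reverse.1 ha)
  acts := BruhatSplit.Acts.inv (RootComb.good_of_mem hE6) h1.acts h1.lt
  acts' := BruhatSplit.Acts.inv (RootComb.good_of_mem hF4) h1.acts' h1.lt'
  orb r hr := by
    have hlt : ∀ a ∈ w.reverse, a < chevE6.rank := fun a ha => h1.lt a (List.mem_reverse.1 ha)
    have h3 : wact chevE6 w.reverse r < 72 := wact_lt (RootComb.good_of_mem hE6) hlt hr
    have h4 := h1.orb _ h3
    rw [wact_reverse' (RootComb.good_of_mem hE6) h1.lt hr] at h4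
    rw [h4, wact_reverse (RootComb.good_of_mem hF4) h1.lt' (orb_lt _ h3)]

theorem nrel_n (i : Fin 4) : NRel (TwE6Basic.n (K := K) i) (nG hF4 (chevF4.simple (nd i)) 1) (TwE6Basic.J i)
    [nd i] := by
  have hlt : ∀ j ∈ TwE6Basic.J i, j < chevE6.rank := fun j hj => (TwE6Basic.J_mem i j hj).1
  have h1 := prod_nG_acts hE6 K (TwE6Basic.J i) hlt
  have hnd : nd i < chevF4.rank := nd_lt i
  refine ⟨rel_n i, h1.1, NPerm.nG_simple_mem hF4 K hnd, hlt, ?_, h1.2, acts_nG_simple hF4 hnd, orb_wact i⟩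
  intro a ha
  rw [List.mem_singleton] at ha
  rw [ha]
  exact hnd

theorem exists_nrel {n : GL chevE6.Idx K} (hn : n ∈ chevE6.monomialSubgroup K) (hnt : n ∈ twistedE6 K 1) :
    ∃ n' w w', NRel n n' w w' := by
  have h1 : n ∈ (T K).N ⊓ (T K).G := ⟨hn, hnt⟩
  rw [(T K).N_inf_G] at h1
  have h2 : Subgroup.closure (Set.range (T K).n) ⊔ ((T K).H ⊓ (T K).G) =
      Subgroup.closure (Set.range (T K).n ∪ ((T K).H ⊓ (T K).G : Subgroup _)) := by
    rw [Subgroup.closure_union, Subgroup.closure_eq]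
  rw [h2] at h1
  clear hn hnt h2
  induction h1 using Subgroup.closure_induction with
  | mem x hx =>
    rcases hx with ⟨i, rfl⟩ | hx
    · exact ⟨_, _, _, nrel_n i⟩
    · obtain ⟨x', hx', hrel⟩ := diag_le (K := K) hx
      exact ⟨x', [], [], hrel, diagonal_le_monomial chevE6 K hx.1, diagonal_le_monomial chevF4 K hx', by simp,
        by simp, acts_of_mem_diagonal hE6 (RootComb.good_of_mem hE6) hx.1,
        acts_of_mem_diagonal hF4 (RootComb.good_of_mem hF4) hx', fun r _ => rfl⟩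
  | one => exact ⟨1, [], [], Rel.one, Subgroup.one_mem _, Subgroup.one_mem _, by simp, by simp, acts_one, acts_one,
      fun r _ => rfl⟩
  | mul x y hx hy ihx ihy =>
    obtain ⟨_, _, _, h3⟩ := ihx
    obtain ⟨_, _, _, h4⟩ := ihy
    exact ⟨_, _, _, h3.mul h4⟩
  | inv x hx ihx =>
    obtain ⟨_, _, _, h3⟩ := ihx
    exact ⟨_, _, _, h3.inv⟩

/-! ### The Borel subgroup -/

theorem borel_le [Fintype K] {g : GL chevE6.Idx K} (hg : g ∈ chevE6.borelSubgroup K) (hgt : g ∈ twistedE6 K 1) :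
    g ∈ relPre (chevF4.borelSubgroup K) := by
  obtain ⟨u, hu, hut, h, hh, hht, rfl⟩ := ((T K).mem_B_iff g hgt).1 hg
  obtain ⟨u', hu', h1⟩ := pos_le (K := K) ⟨hu, hut⟩
  obtain ⟨h', hh', h2⟩ := diag_le (K := K) ⟨hh, hht⟩
  exact ⟨u' * h', Subgroup.mul_mem_sup hu' hh', h1.mul h2⟩

theorem pos_of_orb_eq : ∀ r < 72, ∀ s < 72, chevE6.IsPosRoot r → orb s = orb r → chevE6.IsPosRoot s := by
  decide +kernel

/-- The elements of the fixed subgroup acting trivially on the `F₄`-module lie in `B`. -/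
theorem mem_borel_of_rel_one [Fintype K] {g : GL chevE6.Idx K} (hgt : g ∈ twistedE6 K 1) (hg : Rel g 1) :
    g ∈ chevE6.borelSubgroup K := by
  obtain ⟨P, hB, hN, -⟩ := (T K).exists_bnPair
  obtain ⟨n, hn, hgn⟩ := Cfsg.Agent.S0308.result P (⟨g, hgt⟩ : ↥((T K).G))
  rw [DoubleCoset.mem_doubleCoset] at hgn
  obtain ⟨b, hb, b', hb', he⟩ := hgn
  rw [hN] at hn
  have hb1 : (b : GL chevE6.Idx K) ∈ chevE6.borelSubgroup K := by
    have h1 : b ∈ P.B := hb
    rw [hB] at h1
    exact h1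
  have hb1' : (b' : GL chevE6.Idx K) ∈ chevE6.borelSubgroup K := by
    have h1 : b' ∈ P.B := hb'
    rw [hB] at h1
    exact h1
  have hn1 : (n : GL chevE6.Idx K) ∈ chevE6.monomialSubgroup K := hn
  have he' : g = (b : GL chevE6.Idx K) * n * b' := congrArg Subtype.val he
  obtain ⟨c, hc, h1⟩ := borel_le hb1 b.2
  obtain ⟨c', hc', h2⟩ := borel_le hb1' b'.2
  obtain ⟨m, w, w', h3⟩ := exists_nrel hn1 n.2
  have h4 : Rel g (c * m * c') := by
    rw [he']
    exact (h1.mul h3.rel).mul h2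
  have h5 : c * m * c' = 1 := h4.unique hg
  have h6 : m = c⁻¹ * c'⁻¹ := by
    rw [eq_inv_mul_iff_mul_eq, eq_inv_iff_mul_eq_one]
    exact h5
  have h7 : m ∈ chevF4.diagonalSubgroup K := by
    rw [← (Cfsg.Agent.S1040.result (F := K) chevF4 hF4).2]
    refine ⟨?_, h3.mem'⟩
    rw [h6]
    exact Subgroup.mul_mem _ (Subgroup.inv_mem _ hc) (Subgroup.inv_mem _ hc')
  have hw' : ∀ s < 48, wact chevF4 w' s = s := by
    intro s hs
    have h8 := h3.acts' s hs
    rw [acts_of_mem_diagonal hF4 (RootComb.good_of_mem hF4) h7 s hs] at h8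
    exact (NPerm.rootSubgroup_injective hF4 K (by rw [wact_nil]; exact hs)
      (wact_lt (RootComb.good_of_mem hF4) h3.lt' hs) h8).symm
  have h8 : (n : GL chevE6.Idx K) ∈ chevE6.diagonalSubgroup K := by
    refine mem_diagonal_of_posAct hE6 hn1 h3.lt h3.acts fun r hr => ?_
    have hr' : r < 72 := hr.1
    have h9 := h3.orb r hr'
    rw [hw' _ (orb_lt r hr')] at h9
    exact pos_of_orb_eq r hr' _ (wact_lt (RootComb.good_of_mem hE6) h3.lt hr') hr h9
  rw [he']
  exact Subgroup.mul_mem _ (Subgroup.mul_mem _ hb1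
    ((le_sup_right : chevE6.diagonalSubgroup K ≤ chevE6.borelSubgroup K) h8)) hb1'

/-- A word for the longest element. -/
def longW : List (List ℕ) := [[1], [3], [1], [2, 4], [3], [1], [2, 4], [3], [2, 4], [0, 5], [2, 4], [3], [1], [2, 4],
  [3], [2, 4], [0, 5], [2, 4], [3], [1], [2, 4], [3], [2, 4], [0, 5]]

theorem longW_mem : ∀ J ∈ longW, J ∈ [[1], [3], [2, 4], [0, 5]] := by decide

theorem longW_neg : ∀ r < 72, chevE6.IsPosRoot r → chevE6.IsNegRoot (wact chevE6 longW.flatten r) := by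
  decide +kernel

omit [CharP K 2] in
/-- The relation `Rel` on the torus. -/
theorem diag_eq_one {g : GL chevE6.Idx K} (hg : g ∈ chevE6.diagonalSubgroup K) (h : Rel g 1) : g = 1 := by
  obtain ⟨c, rfl⟩ := FieldFix.exists_torusHom hE6 hg
  have h1 := h (fun _ => 1)
  rw [Units.val_one, Matrix.one_mulVec, coe_torusHom] at h1
  apply Units.ext
  rw [coe_torusHom, Units.val_one, ← Matrix.diagonal_one]
  congr 1
  funext x
  have h2 := congrFun h1 x
  rw [Matrix.mulVec_diagonal] at h2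
  simpa using h2

theorem exists_partner {g : GL chevE6.Idx K} (hg : g ∈ twistedE6 K 1) :
    ∃ g' ∈ chevF4.group K, Rel g g' := by
  have h : twistedE6 K 1 ≤ relPre (chevF4.group K) := by
    rw [TwE6Basic.twisted_le_iff]
    constructor
    · intro t _ r hr
      refine ⟨xG hF4 (orb r) t, xG_mem_group hF4 _ _, rel_single ?_ t⟩
      simp only [List.mem_cons, List.not_mem_nil, or_false] at hr
      rcases hr with rfl | rfl | rfl | rfl <;> decide
    · intro t rs hr
      rw [pow_one]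
      refine ⟨xG hF4 (orb rs.1) t, xG_mem_group hF4 _ _, rel_pair ?_ t⟩
      simp only [List.mem_cons, List.not_mem_nil, or_false] at hr
      rcases hr with rfl | rfl | rfl | rfl <;> decide
  exact h hg

/-- **The action on the `F₄`-module is faithful.** -/
theorem eq_one_of_rel_one [Fintype K] {g : GL chevE6.Idx K} (hgt : g ∈ twistedE6 K 1) (hg : Rel g 1) : g = 1 := by
  have hB := mem_borel_of_rel_one hgt hg
  obtain ⟨m, hm, hmt, hact⟩ := E6Fix.exists_relMono (K := K) (φ := RingHom.id K) hid longW longW_mem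
  obtain ⟨m', -, hm'⟩ := exists_partner hmt
  have h1 : Rel (m⁻¹ * g * m) 1 := by
    have h := (hm'.inv.mul hg).mul hm'
    rwa [mul_one, inv_mul_cancel] at h
  have h2 : m⁻¹ * g * m ∈ twistedE6 K 1 := mul_mem (mul_mem (inv_mem hmt) hgt) hmt
  have h3 := mem_borel_of_rel_one h2 h1
  obtain ⟨u, hu, h, hh, e⟩ := Cfsg.Agent.S1100.exists_mul_of_mem_borel hE6 h3
  have e2 : g = (m * u * m⁻¹) * (m * h * m⁻¹) := by
    calc g = m * (m⁻¹ * g * m) * m⁻¹ := by group
      _ = m * (u * h) * m⁻¹ := by rw [e]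
      _ = _ := by group
  have h4 : m * h * m⁻¹ ∈ chevE6.diagonalSubgroup K := Cfsg.Agent.S1100.conj_mem_diagonal hE6 hm hh
  have h5 : m * u * m⁻¹ ∈ chevE6.negUnipotent K := by
    have h6 : chevE6.posUnipotent K ≤ (chevE6.negUnipotent K).comap (MulAut.conj m).toMonoidHom := by
      refine (posUnipotent_le_iff hE6 _).2 fun r hr t => ?_
      have h7 : m * xG hE6 r t * m⁻¹ ∈ chevE6.rootSubgroup K (wact chevE6 longW.flatten r) := by
        rw [← hact r hr.1]
        exact ⟨_, xG_mem_rootSubgroup hE6 r t, rfl⟩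
      exact rootSubgroup_le_neg hE6 (longW_neg r hr.1 hr) h7
    exact h6 hu
  have h6 : m * u * m⁻¹ = 1 := by
    apply TwE6BN.V_inf_B h5
    have h7 : m * u * m⁻¹ = g * (m * h * m⁻¹)⁻¹ := by rw [e2]; group
    rw [h7]
    exact Subgroup.mul_mem _ hB (Subgroup.inv_mem _
      ((le_sup_right : chevE6.diagonalSubgroup K ≤ chevE6.borelSubgroup K) h4))
  rw [h6, one_mul] at e2
  exact diag_eq_one (e2 ▸ h4) hg

theorem tw_single (r : ℕ) (t : K) (hr : r ∈ [46, 25, 39, 32]) : xG hE6 r t ∈ twistedE6 K 1 :=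
  TwE6Basic.single_mem (pow_one t) hr

theorem tw_pair (r s : ℕ) (t : K) (hr : (r, s) ∈ [(56, 36), (15, 35), (42, 37), (29, 34)]) :
    xG hE6 r t * xG hE6 s t ∈ twistedE6 K 1 := by
  have h := TwE6Basic.pair_mem (K := K) (q := 1) t hr
  rwa [pow_one] at h

theorem exists_copartner {g' : GL chevF4.Idx K} (hg : g' ∈ chevF4.group K) :
    ∃ g ∈ twistedE6 K 1, Rel g g' := by
  have h : chevF4.group K ≤ relPost (twistedE6 K 1) := by
    rw [← Cfsg.Agent.H79.SimpleGen.closure_eq_group hF4, Subgroup.closure_le]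
    obtain ⟨s0, s1, s2, s3⟩ := simple_F4
    obtain ⟨n0, n1, n2, n3⟩ := neg_F4
    rintro g ⟨i, hi, t, rfl | rfl⟩
    · have hi' : i = 0 ∨ i = 1 ∨ i = 2 ∨ i = 3 := by
        have : i < 4 := hi
        omega
      rcases hi' with rfl | rfl | rfl | rfl
      · rw [s0]
        exact ⟨_, tw_pair 56 36 t (by decide), rel_pair (r := 56) (s := 36) (by decide) t⟩
      · rw [s1]
        exact ⟨_, tw_pair 42 37 t (by decide), rel_pair (r := 42) (s := 37) (by decide) t⟩
      · rw [s2]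
        exact ⟨_, tw_single 39 t (by decide), rel_single (r := 39) (by decide) t⟩
      · rw [s3]
        exact ⟨_, tw_single 46 t (by decide), rel_single (r := 46) (by decide) t⟩
    · have hi' : i = 0 ∨ i = 1 ∨ i = 2 ∨ i = 3 := by
        have : i < 4 := hi
        omega
      rcases hi' with rfl | rfl | rfl | rfl
      · rw [s0, n0]
        exact ⟨_, tw_pair 15 35 t (by decide), rel_pair (r := 15) (s := 35) (by decide) t⟩
      · rw [s1, n1]
        exact ⟨_, tw_pair 29 34 t (by decide), rel_pair (r := 29) (s := 34) (by decide) t⟩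
      · rw [s2, n2]
        exact ⟨_, tw_single 32 t (by decide), rel_single (r := 32) (by decide) t⟩
      · rw [s3, n3]
        exact ⟨_, tw_single 25 t (by decide), rel_single (r := 25) (by decide) t⟩
  exact h hg

/-- **`F₄(K)` is the fixed subgroup of the graph automorphism.** -/
theorem exists_equiv [Fintype K] : Nonempty (↥(twistedE6 K 1) ≃* ↥(chevF4.group K)) := by
  classical
  have h1 : ∀ g : ↥(twistedE6 K 1), ∃ g' : ↥(chevF4.group K), Rel (g : GL chevE6.Idx K) (g' : GL chevF4.Idx K) := by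
    intro g
    obtain ⟨g', h, h'⟩ := exists_partner g.2
    exact ⟨⟨g', h⟩, h'⟩
  choose f hf using h1
  let F : ↥(twistedE6 K 1) →* ↥(chevF4.group K) := MonoidHom.mk' f (by
    intro a b
    apply Subtype.ext
    exact (hf (a * b)).unique ((hf a).mul (hf b)))
  refine ⟨MulEquiv.ofBijective F ⟨?_, ?_⟩⟩
  · rw [injective_iff_map_eq_one]
    intro g hg
    have h2 : f g = 1 := hg
    have h3 := hf g
    rw [h2] at h3
    exact Subtype.ext (eq_one_of_rel_one g.2 h3)
  · intro g'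
    obtain ⟨g, hg, h2⟩ := exists_copartner g'.2
    refine ⟨⟨g, hg⟩, Subtype.ext ?_⟩
    exact (hf ⟨g, hg⟩).unique h2

end Cfsg.Agent.H91.E6F4Iso
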