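import Mathlib
import Cfsg.Agent.S0749
import Cfsg.Agent.S0761

/-!
# Alternating forms: isometry group, totally isotropic frames, Witt for families (helper91)

* `SForm B` : `B` is a nondegenerate alternating bilinear form;
* `Iso B` : its isometry group, a subgroup of `V ≃ₗ[F] V`;
* `TI B L` : the subspace `L` is totally isotropic; `Frame B u` : `u : Fin j → V` is linearly independent with totally
  isotropic span;
* `witt_family` : Witt's theorem for linearly independent families with the same Gram matrix.
-/

set_option autoImplicit false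
set_option linter.unusedSectionVars false

namespace Cfsg.Agent.H91.Symp

variable {F V : Type*} [Field F] [AddCommGroup V] [Module F V]

/-- nondegenerate alternating form -/
structure SForm (B : LinearMap.BilinForm F V) : Prop where
  nd : B.Nondegenerate
  alt : B.IsAlt

/-- the isometry group -/
def Iso (B : LinearMap.BilinForm F V) : Subgroup (V ≃ₗ[F] V) where
  carrier := {g | ∀ x y, B (g x) (g y) = B x y}
  mul_mem' := fun {g h} hg hh x y => by
    rw [LinearEquiv.mul_apply, LinearEquiv.mul_apply, hg, hh]
  one_mem' := fun _ _ => rfl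
  inv_mem' := fun {g} hg x y => by
    have h1 := hg (g⁻¹ x) (g⁻¹ y)
    rw [← LinearEquiv.mul_apply, ← LinearEquiv.mul_apply, mul_inv_cancel] at h1
    exact h1.symm

variable {B : LinearMap.BilinForm F V}

theorem mem_Iso {g : V ≃ₗ[F] V} : g ∈ Iso B ↔ ∀ x y, B (g x) (g y) = B x y := Iff.rfl

/-- totally isotropic subspace -/
def TI (B : LinearMap.BilinForm F V) (L : Submodule F V) : Prop := ∀ x ∈ L, ∀ y ∈ L, B x y = 0

/-- totally isotropic frames -/
structure Frame (B : LinearMap.BilinForm F V) {j : ℕ} (u : Fin j → V) : Prop where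
  li : LinearIndependent F u
  ti : ∀ i l, B (u i) (u l) = 0

theorem SForm.self (hB : SForm B) (x : V) : B x x = 0 := hB.alt x

theorem SForm.swap (hB : SForm B) (x y : V) : B x y = -B y x := by
  have h := hB.alt (x + y)
  simp only [map_add, LinearMap.add_apply, hB.self, zero_add, add_zero] at h
  exact eq_neg_of_add_eq_zero_right h

theorem SForm.swap_zero (hB : SForm B) {x y : V} (h : B x y = 0) : B y x = 0 := by
  rw [hB.swap, h, neg_zero]

theorem SForm.eq_zero (hB : SForm B) {x : V} (h : ∀ y, B x y = 0) : x = 0 :=
  hB.nd.1 x h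

theorem SForm.exists_ne (hB : SForm B) {x : V} (hx : x ≠ 0) : ∃ y, B x y ≠ 0 := by
  by_contra hcon
  push Not at hcon
  exact hx (hB.eq_zero hcon)

theorem Iso.smul_mem {g : V ≃ₗ[F] V} (hg : g ∈ Iso B) (x y : V) : B (g x) (g y) = B x y := hg x y

/-- **Witt's theorem for families.** -/
theorem witt_family [FiniteDimensional F V] (hB : SForm B) {ι : Type*} {w w' : ι → V} (li : LinearIndependent F w)
    (li' : LinearIndependent F w') (h : ∀ i j, B (w i) (w j) = B (w' i) (w' j)) :
    ∃ g ∈ Iso B, ∀ i, g (w i) = w' i := by
  let b := Module.Basis.span li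
  let b' := Module.Basis.span li'
  let φ : Submodule.span F (Set.range w) ≃ₗ[F] Submodule.span F (Set.range w') := b.equiv b' (Equiv.refl ι)
  have hφ : ∀ i, (φ (b i) : V) = w' i := by
    intro i
    rw [Module.Basis.equiv_apply]
    exact congrArg Subtype.val (Module.Basis.span_apply li' i)
  have hb : ∀ i, (b i : V) = w i := fun i => congrArg Subtype.val (Module.Basis.span_apply li i)
  have hiso : ∀ x x' : Submodule.span F (Set.range w), B (φ x : V) (φ x' : V) = B (x : V) (x' : V) := by
    let B1 : LinearMap.BilinForm F (Submodule.span F (Set.range w)) :=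
      B.compl₁₂ ((Submodule.subtype _).comp φ.toLinearMap) ((Submodule.subtype _).comp φ.toLinearMap)
    let B2 : LinearMap.BilinForm F (Submodule.span F (Set.range w)) :=
      B.compl₁₂ (Submodule.subtype _) (Submodule.subtype _)
    have hE : B1 = B2 := by
      refine LinearMap.BilinForm.ext_basis b fun i j => ?_
      change B (φ (b i) : V) (φ (b j) : V) = B (b i : V) (b j : V)
      rw [hφ, hφ, hb, hb, h]
    intro x x'
    exact congrArg (fun C : LinearMap.BilinForm F (Submodule.span F (Set.range w)) => C x x') hE
  obtain ⟨g, hg, hgx⟩ := Cfsg.Agent.S0749.result B hB.nd hB.alt _ _ φ hiso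
  refine ⟨g, hg, fun i => ?_⟩
  rw [← hb, hgx, hφ]

end Cfsg.Agent.H91.Symp
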