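import Cfsg.Agent.H91.Symp

/-!
# Flags of totally isotropic subspaces (helper91)

`W u i` : the span of the first `i` vectors of the frame `u : Fin j → V`; `cl B u v` : the position of the vector `v`
in the chain `0 < W u 1 < ... < W u j ≤ (W u j)^⊥ < ... < (W u 1)^⊥ < V`.

* `exists_frame_map` : the isometry group is transitive on frames;
* `exists_flag_map` : and on the pairs (flag, vector) with the same position;
* `sum_eq` : a function of the position is a combination of the indicator functions of the chain.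
-/

set_option autoImplicit false
set_option linter.unusedSectionVars false

namespace Cfsg.Agent.H91.Flag

open Symp Module

variable {F V : Type*} [Field F] [AddCommGroup V] [Module F V] {B : LinearMap.BilinForm F V} {j : ℕ}

variable (F) in
/-- the subspaces of the flag -/
def W (u : Fin j → V) (i : ℕ) : Submodule F V := Submodule.span F (u '' {l | (l : ℕ) < i})

theorem W_mono (u : Fin j → V) {i i' : ℕ} (h : i ≤ i') : W F u i ≤ W F u i' :=
  Submodule.span_mono (Set.image_mono fun _ hl => lt_of_lt_of_le hl h)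

theorem mem_W (u : Fin j → V) {i : ℕ} {l : Fin j} (h : (l : ℕ) < i) : u l ∈ W F u i :=
  Submodule.subset_span ⟨l, h, rfl⟩

theorem W_zero (u : Fin j → V) : W F u 0 = ⊥ := by
  unfold W
  rw [show {l : Fin j | (l : ℕ) < 0} = ∅ by ext; simp, Set.image_empty, Submodule.span_empty]

theorem W_of_le (u : Fin j → V) {i : ℕ} (h : j ≤ i) : W F u i = Submodule.span F (Set.range u) := by
  unfold W
  rw [show {l : Fin j | (l : ℕ) < i} = Set.univ by ext l; simp; omega, Set.image_univ]

theorem W_le_iff {u : Fin j → V} {i : ℕ} {C : Submodule F V} : W F u i ≤ C ↔ ∀ l : Fin j, (l : ℕ) < i → u l ∈ C := by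
  unfold W
  rw [Submodule.span_le]
  constructor
  · exact fun h l hl => h ⟨l, hl, rfl⟩
  · rintro h _ ⟨l, hl, rfl⟩
    exact h l hl

theorem map_W (u : Fin j → V) (i : ℕ) (g : V ≃ₗ[F] V) :
    (W F u i).map (g : V →ₗ[F] V) = W F (fun l => g (u l)) i := by
  unfold W
  rw [Submodule.map_span, Set.image_image]
  rfl

theorem W_le_of_mem {u u' : Fin j → V} (h : ∀ l : Fin j, u' l ∈ W F u (l + 1)) (i : ℕ) : W F u' i ≤ W F u i :=
  W_le_iff.2 fun l hl => W_mono u (by omega) (h l)

theorem W_eq_of_mem {u u' : Fin j → V} (h : ∀ l : Fin j, u' l ∈ W F u (l + 1)) (h' : ∀ l : Fin j, u l ∈ W F u' (l + 1))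
    (i : ℕ) : W F u' i = W F u i :=
  le_antisymm (W_le_of_mem h i) (W_le_of_mem h' i)

theorem finrank_W {u : Fin j → V} (hu : LinearIndependent F u) {i : ℕ} (hi : i ≤ j) : finrank F (W F u i) = i := by
  classical
  have h1 : W F u i = Submodule.span F (Set.range fun l : Fin i => u (Fin.castLE hi l)) := by
    unfold W
    congr 1
    ext v
    constructor
    · rintro ⟨l, hl, rfl⟩
      exact ⟨⟨l, hl⟩, rfl⟩
    · rintro ⟨l, rfl⟩
      exact ⟨Fin.castLE hi l, l.2, rfl⟩
  rw [h1]
  exact (finrank_span_eq_card (hu.comp _ (Fin.castLE_injective hi))).trans (Fintype.card_fin i)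

theorem Frame.mem_span_ti (_ : SForm B) {u : Fin j → V} (hu : Frame B u) {x y : V}
    (hx : x ∈ Submodule.span F (Set.range u)) (hy : y ∈ Submodule.span F (Set.range u)) : B x y = 0 := by
  induction hx using Submodule.span_induction with
  | mem x hx =>
    obtain ⟨l, rfl⟩ := hx
    induction hy using Submodule.span_induction with
    | mem y hy =>
      obtain ⟨l', rfl⟩ := hy
      exact hu.ti l l'
    | zero => rw [map_zero]
    | add y z _ _ h1 h2 => rw [map_add, h1, h2, add_zero]
    | smul c y _ h => rw [map_smul, h, smul_zero]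
  | zero => rw [map_zero, LinearMap.zero_apply]
  | add y z _ _ h1 h2 => rw [map_add, LinearMap.add_apply, h1, h2, add_zero]
  | smul c y _ h => rw [map_smul, LinearMap.smul_apply, h, smul_zero]

theorem Frame.of_flag (hB : SForm B) {u u' : Fin j → V} (hu : Frame B u) (h : ∀ l : Fin j, u' l ∈ W F u (l + 1))
    (h' : ∀ l : Fin j, u l ∈ W F u' (l + 1)) : Frame B u' := by
  have h1 := W_eq_of_mem h h' j
  rw [W_of_le u' le_rfl, W_of_le u le_rfl] at h1
  refine ⟨?_, ?_⟩
  · rw [linearIndependent_iff_card_eq_finrank_span, Set.finrank, h1, ← Set.finrank]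
    exact linearIndependent_iff_card_eq_finrank_span.1 hu.li
  · intro i l
    refine Frame.mem_span_ti hB hu ?_ ?_
    · rw [← h1]; exact Submodule.subset_span ⟨i, rfl⟩
    · rw [← h1]; exact Submodule.subset_span ⟨l, rfl⟩

theorem Frame.map {u : Fin j → V} (hu : Frame B u) {g : V ≃ₗ[F] V} (hg : g ∈ Iso B) : Frame B (fun l => g (u l)) :=
  ⟨hu.li.map' (g : V →ₗ[F] V) (LinearEquiv.ker g), fun i l => by rw [hg, hu.ti]⟩

theorem exists_frame_map [FiniteDimensional F V] (hB : SForm B) {u u' : Fin j → V} (hu : Frame B u) (hu' : Frame B u') :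
    ∃ g ∈ Iso B, ∀ l, g (u l) = u' l :=
  witt_family hB hu.li hu'.li fun i l => by rw [hu.ti, hu'.ti]

/-! ### the chain -/

variable (B) in
/-- the orthogonal space -/
def perp (C : Submodule F V) : Submodule F V where
  carrier := {v | ∀ z ∈ C, B v z = 0}
  add_mem' := fun {a b} ha hb z hz => by rw [map_add, LinearMap.add_apply, ha z hz, hb z hz, add_zero]
  zero_mem' := fun z _ => by rw [map_zero, LinearMap.zero_apply]
  smul_mem' := fun c x hx z hz => by rw [map_smul, LinearMap.smul_apply, hx z hz, smul_zero]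

theorem mem_perp {C : Submodule F V} {v : V} : v ∈ perp B C ↔ ∀ z ∈ C, B v z = 0 := Iff.rfl

theorem perp_anti {C C' : Submodule F V} (h : C ≤ C') : perp B C' ≤ perp B C := fun _ hv z hz => hv z (h hz)

theorem mem_perp_W {u : Fin j → V} {i : ℕ} {v : V} : v ∈ perp B (W F u i) ↔ ∀ l : Fin j, (l : ℕ) < i → B v (u l) = 0 := by
  constructor
  · exact fun h l hl => h _ (mem_W u hl)
  · intro h
    have h1 : W F u i ≤ LinearMap.ker (B v) := W_le_iff.2 fun l hl => LinearMap.mem_ker.2 (h l hl)
    exact fun z hz => LinearMap.mem_ker.1 (h1 hz)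

variable (B) in
/-- the chain of subspaces -/
def Ch (u : Fin j → V) (i : ℕ) : Submodule F V := if i ≤ j then W F u i else perp B (W F u (2 * j + 1 - i))

theorem Ch_of_le {u : Fin j → V} {i : ℕ} (h : i ≤ j) : Ch B u i = W F u i := if_pos h

theorem Ch_of_lt {u : Fin j → V} {i : ℕ} (h : j < i) : Ch B u i = perp B (W F u (2 * j + 1 - i)) := if_neg (by omega)

theorem Ch_mono (hB : SForm B) {u : Fin j → V} (hu : Frame B u) {i i' : ℕ} (h : i ≤ i') : Ch B u i ≤ Ch B u i' := by
  by_cases h1 : i' ≤ j
  · rw [Ch_of_le h1, Ch_of_le (h.trans h1)]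
    exact W_mono u h
  · by_cases h2 : i ≤ j
    · rw [Ch_of_le h2, Ch_of_lt (by omega)]
      intro v hv z hz
      refine Frame.mem_span_ti hB hu ?_ ?_
      · rw [← W_of_le u le_rfl]; exact W_mono u h2 hv
      · rw [← W_of_le u (le_max_right (2 * j + 1 - i') j)]; exact W_mono u (le_max_left _ _) hz
    · rw [Ch_of_lt (by omega), Ch_of_lt (by omega)]
      exact perp_anti (W_mono u (by omega))

theorem Ch_top (u : Fin j → V) : Ch B u (2 * j + 1) = ⊤ := by
  rw [Ch_of_lt (by omega), Nat.sub_self, W_zero, eq_top_iff]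
  intro v _ z hz
  rw [(Submodule.mem_bot F).1 hz, map_zero]

theorem exists_mem_Ch (u : Fin j → V) (v : V) : ∃ i, v ∈ Ch B u i := ⟨2 * j + 1, by rw [Ch_top]; trivial⟩

variable (B) in
open Classical in
/-- the position of a vector in the chain -/
noncomputable def cl (u : Fin j → V) (v : V) : ℕ := Nat.find (exists_mem_Ch (B := B) u v)

theorem mem_Ch_iff (hB : SForm B) {u : Fin j → V} (hu : Frame B u) {v : V} {i : ℕ} : v ∈ Ch B u i ↔ cl B u v ≤ i := by
  classical
  constructor
  · exact fun h => Nat.find_min' _ h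
  · exact fun h => Ch_mono hB hu h (Nat.find_spec (exists_mem_Ch (B := B) u v))

theorem cl_le (hB : SForm B) {u : Fin j → V} (hu : Frame B u) (v : V) : cl B u v ≤ 2 * j + 1 := by
  rw [← mem_Ch_iff hB hu, Ch_top]; trivial

theorem cl_eq_zero (hB : SForm B) {u : Fin j → V} (hu : Frame B u) {v : V} : cl B u v = 0 ↔ v = 0 := by
  rw [← Nat.le_zero, ← mem_Ch_iff hB hu, Ch_of_le (Nat.zero_le j), W_zero, Submodule.mem_bot]

/-- **transitivity on the pairs (flag, vector)** -/
theorem exists_flag_map [FiniteDimensional F V] (hB : SForm B) {u u' : Fin j → V} (hu : Frame B u) (hu' : Frame B u')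
    {v v' : V} (hv : v ≠ 0) (h : cl B u v = cl B u' v') :
    ∃ g ∈ Iso B, g v = v' ∧ ∀ i, (W F u i).map (g : V →ₗ[F] V) = W F u' i := by
  obtain ⟨i, hi⟩ : ∃ i, cl B u v = i + 1 := by
    refine ⟨cl B u v - 1, ?_⟩
    have : cl B u v ≠ 0 := fun e => hv ((cl_eq_zero hB hu).1 e)
    omega
  have hv1 : v ∈ Ch B u (i + 1) := (mem_Ch_iff hB hu).2 hi.le
  have hv2 : v ∉ Ch B u i := fun e => by have := (mem_Ch_iff hB hu).1 e; omega
  have hv1' : v' ∈ Ch B u' (i + 1) := (mem_Ch_iff hB hu').2 (h ▸ hi.le)
  have hv2' : v' ∉ Ch B u' i := fun e => by have := (mem_Ch_iff hB hu').1 e; omega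
  have hi2 := cl_le hB hu v
  rcases lt_trichotomy i j with hij | hij | hij
  · -- `v` is in the totally isotropic part
    rw [Ch_of_le (by omega)] at hv1 hv2 hv1' hv2'
    have key : ∀ (u : Fin j → V) (v : V), Frame B u → v ∈ W F u (i + 1) → v ∉ W F u i →
        Frame B (Function.update u ⟨i, hij⟩ v) ∧ ∀ i', W F (Function.update u ⟨i, hij⟩ v) i' = W F u i' := by
      intro u v hu hv1 hv2
      have h1 : ∀ l : Fin j, Function.update u ⟨i, hij⟩ v l ∈ W F u (l + 1) := by
        intro l
        by_cases hl : l = ⟨i, hij⟩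
        · subst hl; rw [Function.update_self]; exact hv1
        · rw [Function.update_of_ne hl]; exact mem_W u (by omega)
      have hWle : W F u i ≤ W F (Function.update u ⟨i, hij⟩ v) i := by
        refine W_le_iff.2 fun l hl => ?_
        have hl' : l ≠ ⟨i, hij⟩ := by rintro rfl; exact lt_irrefl _ hl
        have := mem_W (F := F) (Function.update u ⟨i, hij⟩ v) hl
        rwa [Function.update_of_ne hl'] at this
      have h2 : ∀ l : Fin j, u l ∈ W F (Function.update u ⟨i, hij⟩ v) (l + 1) := by
        intro l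
        by_cases hl : l = ⟨i, hij⟩
        · subst hl
          have h3 : W F u (i + 1) = W F u i ⊔ Submodule.span F {u ⟨i, hij⟩} := by
            unfold W
            rw [← Submodule.span_union]
            congr 1
            ext x
            constructor
            · rintro ⟨l, hl, rfl⟩
              by_cases h4 : (l : ℕ) < i
              · exact Or.inl ⟨l, h4, rfl⟩
              · right
                have : l = ⟨i, hij⟩ := Fin.ext (by
                  have : (l : ℕ) < i + 1 := hl
                  change (l : ℕ) = i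
                  omega)
                rw [this]; rfl
            · rintro (⟨l, hl, rfl⟩ | hx)
              · exact ⟨l, Nat.lt_succ_of_lt hl, rfl⟩
              · rw [Set.mem_singleton_iff.1 hx]
                exact ⟨⟨i, hij⟩, Nat.lt_succ_self i, rfl⟩
          rw [h3, Submodule.mem_sup] at hv1
          obtain ⟨w, hw, z, hz, e⟩ := hv1
          obtain ⟨c, rfl⟩ := Submodule.mem_span_singleton.1 hz
          have hc : c ≠ 0 := by
            rintro rfl
            rw [zero_smul, add_zero] at e
            exact hv2 (e ▸ hw)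
          have e1 : u ⟨i, hij⟩ = c⁻¹ • (v - w) := by
            rw [← e, add_sub_cancel_left, smul_smul, inv_mul_cancel₀ hc, one_smul]
          have hvm : v ∈ W F (Function.update u ⟨i, hij⟩ v) (i + 1) := by
            have := mem_W (F := F) (Function.update u ⟨i, hij⟩ v) (l := ⟨i, hij⟩) (Nat.lt_succ_self i)
            rwa [Function.update_self] at this
          rw [e1]
          exact Submodule.smul_mem _ _ (Submodule.sub_mem _ hvm (W_mono _ (Nat.le_succ i) (hWle hw)))
        · have := mem_W (F := F) (Function.update u ⟨i, hij⟩ v) (l := l) (Nat.lt_succ_self _)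
          rwa [Function.update_of_ne hl] at this
      exact ⟨Frame.of_flag hB hu h1 h2, W_eq_of_mem h1 h2⟩
    obtain ⟨h1, h2⟩ := key u v hu hv1 hv2
    obtain ⟨h1', h2'⟩ := key u' v' hu' hv1' hv2'
    obtain ⟨g, hg, e⟩ := exists_frame_map hB h1 h1'
    refine ⟨g, hg, ?_, fun i' => ?_⟩
    · have := e ⟨i, hij⟩
      rwa [Function.update_self, Function.update_self] at this
    · rw [← h2, ← h2', map_W]
      congr 1
      funext l
      exact e l
  · -- `v` is orthogonal to the frame
    subst hij
    rw [Ch_of_lt (by omega)] at hv1 hv1'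
    rw [Ch_of_le le_rfl] at hv2 hv2'
    rw [show 2 * i + 1 - (i + 1) = i by omega] at hv1 hv1'
    rw [W_of_le _ le_rfl] at hv2 hv2'
    have hvu : ∀ l, B v (u l) = 0 := fun l => mem_perp_W.1 hv1 l l.2
    have hvu' : ∀ l, B v' (u' l) = 0 := fun l => mem_perp_W.1 hv1' l l.2
    obtain ⟨g, hg, e⟩ := witt_family (B := B) hB (w := fun o : Option (Fin i) => (o.casesOn' v u : V))
      (w' := fun o : Option (Fin i) => (o.casesOn' v' u' : V)) (linearIndependent_option'.2 ⟨hu.li, hv2⟩)
      (linearIndependent_option'.2 ⟨hu'.li, hv2'⟩) (by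
        rintro (_ | a) (_ | b)
        · exact (hB.self v).trans (hB.self v').symm
        · exact (hvu b).trans (hvu' b).symm
        · exact (hB.swap_zero (hvu a)).trans (hB.swap_zero (hvu' a)).symm
        · exact (hu.ti a b).trans (hu'.ti a b).symm)
    refine ⟨g, hg, e none, fun i' => ?_⟩
    rw [map_W]
    congr 1
    funext l
    exact e (some l)
  · -- `v` is not orthogonal
    rw [Ch_of_lt (by omega)] at hv1 hv1' hv2 hv2'
    obtain ⟨r, hr⟩ : ∃ r, 2 * j + 1 - (i + 1) = r := ⟨_, rfl⟩
    have hr' : 2 * j + 1 - i = r + 1 := by omega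
    have hrj : r < j := by omega
    rw [hr] at hv1 hv1'
    rw [hr'] at hv2 hv2'
    have key : ∀ (u : Fin j → V) (v : V), Frame B u → v ∈ perp B (W F u r) → v ∉ perp B (W F u (r + 1)) →
        ∃ w : Fin j → V, Frame B w ∧ (∀ i', W F w i' = W F u i') ∧
          ∀ l, B v (w l) = if l = ⟨r, hrj⟩ then 1 else 0 := by
      intro u v hu hv1 hv2
      rw [mem_perp_W] at hv1 hv2
      have h0 : B v (u ⟨r, hrj⟩) ≠ 0 := by
        intro e
        apply hv2
        intro l hl
        by_cases h4 : (l : ℕ) < r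
        · exact hv1 l h4
        · rw [show l = ⟨r, hrj⟩ from Fin.ext (by change (l : ℕ) = r; omega)]; exact e
      set a : F := B v (u ⟨r, hrj⟩) with ha
      let w : Fin j → V := fun l => if l = ⟨r, hrj⟩ then a⁻¹ • u l else u l - (a⁻¹ * B v (u l)) • u ⟨r, hrj⟩
      have hw0 : w ⟨r, hrj⟩ = a⁻¹ • u ⟨r, hrj⟩ := if_pos rfl
      have hw1 : ∀ l, l ≠ ⟨r, hrj⟩ → w l = u l - (a⁻¹ * B v (u l)) • u ⟨r, hrj⟩ := fun l hl => if_neg hl
      have h1 : ∀ l : Fin j, w l ∈ W F u (l + 1) := by
        intro l
        by_cases hl : l = ⟨r, hrj⟩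
        · subst hl; rw [hw0]; exact Submodule.smul_mem _ _ (mem_W u (Nat.lt_succ_self _))
        · rw [hw1 l hl]
          refine Submodule.sub_mem _ (mem_W u (Nat.lt_succ_self _)) ?_
          by_cases h4 : (l : ℕ) < r
          · rw [hv1 l h4, mul_zero, zero_smul]; exact Submodule.zero_mem _
          · refine Submodule.smul_mem _ _ (mem_W u ?_)
            change r < l + 1
            omega
      have h2 : ∀ l : Fin j, u l ∈ W F w (l + 1) := by
        have h3 : ∀ i', r < i' → u ⟨r, hrj⟩ ∈ W F w i' := by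
          intro i' hi'
          have h4 : u ⟨r, hrj⟩ = a • w ⟨r, hrj⟩ := by rw [hw0, smul_smul, mul_inv_cancel₀ h0, one_smul]
          rw [h4]
          exact Submodule.smul_mem _ _ (mem_W w hi')
        intro l
        by_cases hl : l = ⟨r, hrj⟩
        · subst hl; exact h3 _ (Nat.lt_succ_self _)
        · have h4 : u l = w l + (a⁻¹ * B v (u l)) • u ⟨r, hrj⟩ := by rw [hw1 l hl, sub_add_cancel]
          rw [h4]
          refine Submodule.add_mem _ (mem_W w (Nat.lt_succ_self _)) ?_
          by_cases h5 : (l : ℕ) < r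
          · rw [hv1 l h5, mul_zero, zero_smul]; exact Submodule.zero_mem _
          · exact Submodule.smul_mem _ _ (h3 _ (by omega))
      refine ⟨w, Frame.of_flag hB hu h1 h2, W_eq_of_mem h1 h2, fun l => ?_⟩
      by_cases hl : l = ⟨r, hrj⟩
      · rw [if_pos hl, hl, hw0, map_smul, ← ha, smul_eq_mul, inv_mul_cancel₀ h0]
      · rw [if_neg hl, hw1 l hl, map_sub, map_smul, ← ha, smul_eq_mul, mul_assoc, mul_comm (B v (u l)), ← mul_assoc,
          inv_mul_cancel₀ h0, one_mul, sub_self]
    have hns : ∀ (w : Fin j → V) (v : V), Frame B w → (∀ l, B v (w l) = if l = ⟨r, hrj⟩ then 1 else 0) →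
        v ∉ Submodule.span F (Set.range w) := by
      intro w v hw h1 h2
      have h3 := Frame.mem_span_ti hB hw h2 (Submodule.subset_span ⟨⟨r, hrj⟩, rfl⟩)
      rw [h1, if_pos rfl] at h3
      exact one_ne_zero h3
    obtain ⟨w, h1, h2, h3⟩ := key u v hu hv1 hv2
    obtain ⟨w', h1', h2', h3'⟩ := key u' v' hu' hv1' hv2'
    obtain ⟨g, hg, e⟩ := witt_family (B := B) hB (w := fun o : Option (Fin j) => (o.casesOn' v w : V))
      (w' := fun o : Option (Fin j) => (o.casesOn' v' w' : V)) (linearIndependent_option'.2 ⟨h1.li, hns w v h1 h3⟩)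
      (linearIndependent_option'.2 ⟨h1'.li, hns w' v' h1' h3'⟩) (by
        rintro (_ | a) (_ | b)
        · exact (hB.self v).trans (hB.self v').symm
        · exact (h3 b).trans (h3' b).symm
        · change B (w a) v = B (w' a) v'
          rw [hB.swap, h3 a, hB.swap, h3' a]
        · exact (h1.ti a b).trans (h1'.ti a b).symm)
    refine ⟨g, hg, e none, fun i' => ?_⟩
    rw [← h2, ← h2', map_W]
    congr 1
    funext l
    exact e (some l)

end Cfsg.Agent.H91.Flag
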