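import Cfsg.Agent.H91.Flag
import Cfsg.Agent.H91.RankThree

/-!
# Invariant functions on flags are affine functions of the intersection numbers (helper91)

Rank three action of the isometry group of a symplectic form on `X`, `K` the stabiliser of `x₀`, `r ≠ 0` a function on
`X` orthogonal to the functions invariant under the stabiliser of a totally isotropic flag; `K` has exactly two orbits
on the points of `V`, one of them `O`. Then (`aff`) every `K`-invariant function on the totally isotropic flags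
`W 1 < ... < W j` is an affine function of the numbers `|O ∩ W i|`.
-/

set_option autoImplicit false
set_option linter.unusedSectionVars false

namespace Cfsg.Agent.H91.FlagFun

open Symp Cfsg.Agent.H91.Flag Module RankThree

variable {F V : Type*} [Field F] [Fintype F] [AddCommGroup V] [Module F V] [FiniteDimensional F V] [Fintype V]
  {B : LinearMap.BilinForm F V} {j : ℕ}

open Classical in
/-- the sum of a function on a subspace -/
noncomputable def sm (φ : V → ℝ) (C : Submodule F V) : ℝ := ∑ v : V, if v ∈ C then φ v else 0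

theorem telescope (g : ℕ → ℝ) {n N : ℕ} (h : n ≤ N) :
    g n = g N + ∑ i ∈ Finset.range N, if n ≤ i then g i - g (i + 1) else 0 := by
  induction N, h using Nat.le_induction with
  | base =>
    rw [Finset.sum_eq_zero, add_zero]
    intro i hi
    rw [if_neg]
    have := Finset.mem_range.1 hi
    omega
  | succ N hN ih =>
    rw [Finset.sum_range_succ, if_pos hN, ih]
    ring

theorem sum_eq (hB : SForm B) {u : Fin j → V} (hu : Frame B u) {φ c : V → ℝ} (h0 : φ 0 = 0) (hs : ∑ v, φ v = 0)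
    {g : ℕ → ℝ} (hc : ∀ v, v ≠ 0 → c v = g (cl B u v)) :
    ∑ v, φ v * c v = ∑ i ∈ Finset.range (2 * j + 1), (g i - g (i + 1)) * sm φ (Ch B u i) := by
  classical
  have h1 : ∀ v, φ v * c v = φ v * g (2 * j + 1) +
      ∑ i ∈ Finset.range (2 * j + 1), (g i - g (i + 1)) * (if v ∈ Ch B u i then φ v else 0) := by
    intro v
    by_cases hv : v = 0
    · rw [hv, h0, zero_mul, zero_mul, zero_add, Finset.sum_eq_zero]
      intro i _
      split_ifs <;> rw [mul_zero]
    · rw [hc v hv, telescope g (cl_le hB hu v), mul_add, Finset.mul_sum]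
      congr 1
      refine Finset.sum_congr rfl fun i _ => ?_
      simp only [mem_Ch_iff hB hu]
      split_ifs <;> ring
  simp only [h1]
  rw [Finset.sum_add_distrib, ← Finset.sum_mul, hs, zero_mul, zero_add, Finset.sum_comm]
  refine Finset.sum_congr rfl fun i _ => ?_
  rw [← Finset.mul_sum]
  rfl

theorem card_ker (C : Submodule F V) {v : V} (hv : v ∉ perp B C) :
    (Nat.card {z : C // B v z = 0}) * Fintype.card F = Nat.card C := by
  classical
  let f : C →ₗ[F] F := (B v).comp C.subtype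
  have hf : LinearMap.range f = ⊤ := by
    rcases (eq_bot_or_eq_top (LinearMap.range f)) with h | h
    · exfalso
      apply hv
      intro z hz
      have h1 : f ⟨z, hz⟩ ∈ LinearMap.range f := ⟨_, rfl⟩
      rw [h, Submodule.mem_bot] at h1
      exact h1
    · exact h
  have h1 := LinearMap.finrank_range_add_finrank_ker f
  rw [hf, finrank_top, finrank_self] at h1
  have h2 : Nat.card {z : C // B v z = 0} = Nat.card (LinearMap.ker f) := Nat.card_congr (Equiv.refl _)
  rw [h2, Module.natCard_eq_pow_finrank (K := F), Module.natCard_eq_pow_finrank (K := F) (V := C), ← h1,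
    Nat.card_eq_fintype_card, pow_add, pow_one, mul_comm]

/-- sums over the orthogonal space -/
theorem perp_sum {φ : V → ℝ} (hs : ∑ v, φ v = 0) {lam : ℝ}
    (hlam : ∀ z, sm φ (perp B (Submodule.span F {z})) = lam * φ z) (C : Submodule F V) :
    (Nat.card C : ℝ) * (1 - (Fintype.card F : ℝ)⁻¹) * sm φ (perp B C) = lam * sm φ C := by
  classical
  have hp : ∀ v z, v ∈ perp B (Submodule.span F {z}) ↔ B v z = 0 := by
    intro v z
    constructor
    · exact fun h => h z (Submodule.mem_span_singleton_self z)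
    · intro h w hw
      obtain ⟨c, rfl⟩ := Submodule.mem_span_singleton.1 hw
      rw [map_smul, h, smul_zero]
  have h1 : lam * sm φ C = ∑ v, φ v * Nat.card {z : C // B v z = 0} := by
    unfold sm
    rw [Finset.mul_sum]
    have e1 : ∀ z, lam * (if z ∈ C then φ z else 0) = ∑ v, if z ∈ C ∧ B v z = 0 then φ v else 0 := by
      intro z
      split_ifs with hz
      · rw [← hlam]
        unfold sm
        refine Finset.sum_congr rfl fun v _ => ?_
        simp only [hp, hz, true_and]
      · simp only [hz, false_and, if_false, Finset.sum_const_zero, mul_zero]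
    simp only [e1]
    rw [Finset.sum_comm]
    refine Finset.sum_congr rfl fun v _ => ?_
    rw [← Finset.sum_filter, Finset.sum_const, nsmul_eq_mul, mul_comm]
    congr 2
    rw [Nat.card_eq_fintype_card, ← Fintype.card_subtype]
    refine Fintype.card_congr ⟨fun z => ⟨⟨z.1, z.2.1⟩, z.2.2⟩, fun z => ⟨z.1.1, z.1.2, z.2⟩, fun _ => rfl, fun _ => rfl⟩
  have hq : (Fintype.card F : ℝ) ≠ 0 := by exact_mod_cast Fintype.card_ne_zero
  have h2 : ∀ v, φ v * Nat.card {z : C // B v z = 0} = (Nat.card C : ℝ) * (Fintype.card F : ℝ)⁻¹ * φ v +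
      (Nat.card C : ℝ) * (1 - (Fintype.card F : ℝ)⁻¹) * (if v ∈ perp B C then φ v else 0) := by
    intro v
    split_ifs with hv
    · have : Nat.card {z : C // B v z = 0} = Nat.card C :=
        Nat.card_congr (Equiv.subtypeUnivEquiv fun z => hv z z.2)
      rw [this]
      ring
    · have := card_ker C hv
      rw [← this]
      push_cast
      field_simp
      ring
  rw [h1]
  simp only [h2]
  rw [Finset.sum_add_distrib, ← Finset.mul_sum, hs, mul_zero, zero_add, ← Finset.mul_sum]
  rfl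

/-! ### linear functions -/

variable (B j) in
/-- linear combinations of the sums over the subspaces of the flag -/
def Lin (φ : V → ℝ) (f : (Fin j → V) → ℝ) : Prop :=
  ∃ α : ℕ → ℝ, ∀ u : Fin j → V, Frame B u → f u = ∑ l ∈ Finset.range (j + 1), α l * sm φ (W F u l)

theorem Lin.add {φ : V → ℝ} {f f' : (Fin j → V) → ℝ} (h : Lin B j φ f) (h' : Lin B j φ f') :
    Lin B j φ (fun u => f u + f' u) := by
  obtain ⟨α, h⟩ := h
  obtain ⟨α', h'⟩ := h'
  refine ⟨fun l => α l + α' l, fun u hu => ?_⟩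
  beta_reduce
  rw [h u hu, h' u hu, ← Finset.sum_add_distrib]
  exact Finset.sum_congr rfl fun l _ => by ring

theorem Lin.const_mul {φ : V → ℝ} {f : (Fin j → V) → ℝ} (c : ℝ) (h : Lin B j φ f) :
    Lin B j φ (fun u => c * f u) := by
  obtain ⟨α, h⟩ := h
  refine ⟨fun l => c * α l, fun u hu => ?_⟩
  beta_reduce
  rw [h u hu, Finset.mul_sum]
  exact Finset.sum_congr rfl fun l _ => by ring

theorem Lin.zero {φ : V → ℝ} : Lin B j φ (fun _ => 0) :=
  ⟨fun _ => 0, fun u _ => by simp⟩

theorem Lin.sum {φ : V → ℝ} {ι : Type*} (s : Finset ι) {f : ι → (Fin j → V) → ℝ} (h : ∀ i ∈ s, Lin B j φ (f i)) :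
    Lin B j φ (fun u => ∑ i ∈ s, f i u) := by
  classical
  induction s using Finset.induction_on with
  | empty => simpa using Lin.zero
  | insert a s ha ih =>
    simp only [Finset.sum_insert ha]
    exact (h a (Finset.mem_insert_self a s)).add (ih fun i hi => h i (Finset.mem_insert_of_mem hi))

theorem Lin.congr {φ : V → ℝ} {f f' : (Fin j → V) → ℝ} (h : Lin B j φ f) (e : ∀ u, Frame B u → f' u = f u) :
    Lin B j φ f' := by
  obtain ⟨α, h⟩ := h
  exact ⟨α, fun u hu => (e u hu).trans (h u hu)⟩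

theorem lin_W {φ : V → ℝ} {i : ℕ} (hi : i ≤ j) : Lin B j φ (fun u => sm φ (W F u i)) := by
  classical
  refine ⟨fun l => if l = i then 1 else 0, fun u _ => ?_⟩
  simp only [ite_mul, one_mul, zero_mul]
  rw [Finset.sum_ite_eq', if_pos (Finset.mem_range.2 (by omega))]

theorem lin_Ch {φ : V → ℝ} (hs : ∑ v, φ v = 0) {lam : ℝ}
    (hlam : ∀ z, sm φ (perp B (Submodule.span F {z})) = lam * φ z) (i : ℕ) :
    Lin B j φ (fun u => sm φ (Ch B u i)) := by
  by_cases hi : i ≤ j
  · exact (lin_W hi).congr fun u _ => by rw [Ch_of_le hi]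
  · have hi2 : 2 * j + 1 - i ≤ j := by omega
    refine ((lin_W (φ := φ) hi2).const_mul
      (lam * ((Fintype.card F : ℝ) ^ (2 * j + 1 - i) * (1 - (Fintype.card F : ℝ)⁻¹))⁻¹)).congr fun u hu => ?_
    rw [Ch_of_lt (by omega)]
    have h1 := perp_sum hs hlam (W F u (2 * j + 1 - i))
    rw [Module.natCard_eq_pow_finrank (K := F), finrank_W hu.li hi2, Nat.card_eq_fintype_card] at h1
    have hq1 : (1 : ℝ) < Fintype.card F := by exact_mod_cast Fintype.one_lt_card
    have hq : (0 : ℝ) < 1 - (Fintype.card F : ℝ)⁻¹ := by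
      have := inv_lt_one_of_one_lt₀ hq1
      linarith
    have hne : ((Fintype.card F : ℝ) ^ (2 * j + 1 - i) * (1 - (Fintype.card F : ℝ)⁻¹)) ≠ 0 := by
      have : (0 : ℝ) < (Fintype.card F : ℝ) ^ (2 * j + 1 - i) := by positivity
      positivity
    push_cast at h1
    rw [mul_assoc, mul_left_comm, ← h1, ← mul_assoc, inv_mul_cancel₀ hne, one_mul]

/-! ### the rank three data -/

variable {X : Type*} [Fintype X] [MulAction (Iso B) X]

/-- `r` is orthogonal to the functions invariant under the stabiliser of a totally isotropic flag -/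
def Orth (B : LinearMap.BilinForm F V) {X : Type*} [Fintype X] [MulAction (Iso B) X] (r : X → ℝ) : Prop :=
  ∀ (j : ℕ) (u : Fin j → V) (h : X → ℝ), Frame B u →
    (∀ g : Iso B, (∀ i, (W F u i).map (g.1 : V →ₗ[F] V) = W F u i) → ∀ x, h (g • x) = h x) → ∑ x, h x * r x = 0

/-- an orbit of points -/
structure Orb (K : Subgroup (Iso B)) (O : Set V) : Prop where
  inv : ∀ g ∈ K, ∀ v, g • v ∈ O ↔ v ∈ O
  smul : ∀ c : F, c ≠ 0 → ∀ v, c • v ∈ O ↔ v ∈ O
  zero : (0 : V) ∉ O
  ne : O.Nonempty
  ne' : ∃ v, v ≠ 0 ∧ v ∉ O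
  tr : ∀ v ∈ O, ∀ v' ∈ O, ∃ g ∈ K, ∃ c : F, g • v = c • v'
  tr' : ∀ v, v ≠ 0 → v ∉ O → ∀ v', v' ≠ 0 → v' ∉ O → ∃ g ∈ K, ∃ c : F, g • v = c • v'

theorem smul_def (g : Iso B) (v : V) : g • v = g.1 v := rfl

theorem W_smul (g : Iso B) (u : Fin j → V) (i : ℕ) : W F (g • u) i = (W F u i).map (g.1 : V →ₗ[F] V) :=
  (map_W u i g.1).symm

theorem frame_smul {u : Fin j → V} (hu : Frame B u) (g : Iso B) : Frame B (g • u) := Flag.Frame.map hu g.2

open Classical in
/-- the normalised characteristic function of a set of points -/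
noncomputable def nf (O : Set V) (v : V) : ℝ :=
  (if v ∈ O then 1 else 0) - if v = 0 then 0 else (O.ncard : ℝ) / ((Fintype.card V : ℝ) - 1)

theorem nf_zero {O : Set V} (h : (0 : V) ∉ O) : nf O 0 = 0 := by
  classical
  unfold nf
  rw [if_neg h, if_pos rfl, sub_zero]

theorem ncard_eq_sum (O : Set V) [DecidablePred (· ∈ O)] : (O.ncard : ℝ) = ∑ v : V, if v ∈ O then (1 : ℝ) else 0 := by
  classical
  rw [← Finset.sum_filter, Finset.sum_const, nsmul_eq_mul, mul_one, ← Nat.card_coe_set_eq, Nat.card_eq_fintype_card,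
    ← Fintype.card_subtype]

open Classical in
theorem sum_ite_ne [Nontrivial V] (c : ℝ) : ∑ v : V, (if v = 0 then 0 else c : ℝ) = c * ((Fintype.card V : ℝ) - 1) := by
  classical
  have h1 : ∀ v : V, (if v = 0 then 0 else c : ℝ) = c - if v = 0 then c else 0 := fun v => by split_ifs <;> simp
  simp only [h1]
  rw [Finset.sum_sub_distrib, Finset.sum_const, Finset.sum_ite_eq', if_pos (Finset.mem_univ _), Finset.card_univ,
    nsmul_eq_mul]
  ring

theorem card_sub_ne [Nontrivial V] : ((Fintype.card V : ℝ) - 1) ≠ 0 := by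
  have : 1 < Fintype.card V := Fintype.one_lt_card
  have : (1 : ℝ) < Fintype.card V := by exact_mod_cast this
  linarith

theorem sum_nf [Nontrivial V] (O : Set V) : ∑ v, nf O v = 0 := by
  classical
  unfold nf
  rw [Finset.sum_sub_distrib, sum_ite_ne, div_mul_cancel₀ _ card_sub_ne, sub_eq_zero]
  exact (ncard_eq_sum O).symm

theorem sm_nf [Nontrivial V] (O : Set V) (C : Submodule F V) :
    sm (nf O) C = (((C : Set V) ∩ O).ncard : ℝ) - (O.ncard : ℝ) / ((Fintype.card V : ℝ) - 1) * ((Nat.card C : ℝ) - 1) := by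
  classical
  unfold sm nf
  rw [ncard_eq_sum ((C : Set V) ∩ O)]
  have h1 : ((Nat.card C : ℝ) - 1) = ∑ v : V, if v ∈ C ∧ v ≠ 0 then (1 : ℝ) else 0 := by
    have e : ∀ v : V, (if v ∈ C ∧ v ≠ 0 then (1 : ℝ) else 0) = (if v ∈ (C : Set V) then (1 : ℝ) else 0) -
        if v = 0 then 1 else 0 := by
      intro v
      by_cases hv : v = 0
      · subst hv; simp
      · simp [hv]
    simp only [e]
    rw [Finset.sum_sub_distrib, Finset.sum_ite_eq', if_pos (Finset.mem_univ _), ← ncard_eq_sum, ← Nat.card_coe_set_eq]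
    rfl
  rw [h1, Finset.mul_sum, ← Finset.sum_sub_distrib]
  refine Finset.sum_congr rfl fun v _ => ?_
  simp only [Set.mem_inter_iff, SetLike.mem_coe]
  by_cases hv : v ∈ C
  · by_cases h0 : v = 0
    · simp [h0]
    · simp [hv, h0]
  · simp [hv]

/-- functions on points which are constant on the orbits and have sum zero -/
theorem exists_lam [Nontrivial V] {K : Subgroup (Iso B)} {O : Set V} (hO : Orb K O) {τ : V → ℝ} (h0 : τ 0 = 0)
    (hs : ∑ v, τ v = 0) (hK : ∀ g ∈ K, ∀ v, τ (g • v) = τ v) (hc : ∀ c : F, c ≠ 0 → ∀ v, τ (c • v) = τ v) :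
    ∃ lam : ℝ, ∀ v, τ v = lam * nf O v := by
  classical
  obtain ⟨a, ha⟩ := hO.ne
  obtain ⟨b, hb0, hb⟩ := hO.ne'
  have ha0 : a ≠ 0 := fun e => hO.zero (e ▸ ha)
  have hgen : ∀ v w : V, w ≠ 0 → v ≠ 0 → (∃ g ∈ K, ∃ c : F, g • v = c • w) → τ v = τ w := by
    rintro v w hw hv ⟨g, hg, c, e⟩
    have hcne : c ≠ 0 := by
      rintro rfl
      rw [zero_smul] at e
      exact hv ((LinearEquiv.map_eq_zero_iff g.1).1 e)
    rw [← hK g hg, e, hc c hcne]
  have h1 : ∀ v ∈ O, τ v = τ a := fun v hv => hgen v a ha0 (fun e => hO.zero (e ▸ hv)) (hO.tr v hv a ha)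
  have h2 : ∀ v, v ≠ 0 → v ∉ O → τ v = τ b := fun v hv hvO => hgen v b hb0 hv (hO.tr' v hv hvO b hb0 hb)
  refine ⟨τ a - τ b, fun v => ?_⟩
  -- the mean
  have e : ∀ v, τ v = (τ a - τ b) * (if v ∈ O then 1 else 0) + if v = 0 then 0 else τ b := by
    intro v
    by_cases hv : v = 0
    · subst hv; rw [h0, if_neg hO.zero, if_pos rfl]; ring
    · by_cases hvO : v ∈ O
      · rw [h1 v hvO, if_pos hvO, if_neg hv]; ring
      · rw [h2 v hv hvO, if_neg hvO, if_neg hv]; ring
  have h3 : (τ a - τ b) * O.ncard + τ b * ((Fintype.card V : ℝ) - 1) = 0 := by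
    rw [ncard_eq_sum O, ← sum_ite_ne, Finset.mul_sum, ← Finset.sum_add_distrib]
    rw [Finset.sum_congr rfl fun v _ => e v] at hs
    exact hs
  have h4 : τ b = -((τ a - τ b) * (O.ncard / ((Fintype.card V : ℝ) - 1))) := by
    have := card_sub_ne (V := V)
    field_simp
    linarith
  rw [e v]
  unfold nf
  by_cases hv : v = 0
  · subst hv; rw [if_neg hO.zero, if_pos rfl, if_pos rfl]; ring
  · rw [if_neg hv, if_neg hv, mul_sub]
    linarith

/-! ### kernels -/

theorem exists_kernel {G X Y : Type*} [Group G] [MulAction G X] [MulAction G Y] [MulAction.IsPretransitive G X] (x₀ : X)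
    {f : Y → ℝ} (hf : ∀ k ∈ MulAction.stabilizer G x₀, ∀ y, f (k • y) = f y) :
    ∃ A : Matrix X Y ℝ, Inv G A ∧ ∀ y, A x₀ y = f y := by
  have hch : ∀ x : X, ∃ g : G, g • x₀ = x := fun x => MulAction.exists_smul_eq G x₀ x
  choose c hc using hch
  refine ⟨fun x y => f ((c x)⁻¹ • y), ?_, ?_⟩
  · intro g x y
    have h1 : (c (g • x))⁻¹ * g * c x ∈ MulAction.stabilizer G x₀ := by
      rw [MulAction.mem_stabilizer_iff, mul_smul, mul_smul, hc, inv_smul_eq_iff, hc]
    change f ((c (g • x))⁻¹ • g • y) = f ((c x)⁻¹ • y)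
    rw [← hf _ h1 ((c x)⁻¹ • y), mul_smul, mul_smul, smul_inv_smul]
  · intro y
    refine hf _ ?_ y
    rw [MulAction.mem_stabilizer_iff, inv_smul_eq_iff, hc]

theorem sm_perp_span (φ : V → ℝ) (z : V) [DecidablePred fun v => B v z = 0] :
    sm φ (perp B (Submodule.span F {z})) = ∑ v, if B v z = 0 then φ v else 0 := by
  classical
  unfold sm
  refine Finset.sum_congr rfl fun v _ => ?_
  have hp : v ∈ perp B (Submodule.span F {z}) ↔ B v z = 0 := by
    constructor
    · exact fun h => h z (Submodule.mem_span_singleton_self z)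
    · intro h w hw
      obtain ⟨c, rfl⟩ := Submodule.mem_span_singleton.1 hw
      rw [map_smul, h, smul_zero]
  simp only [hp]

theorem exists_smul_nonzero (hB : SForm B) {v w : V} (hv : v ≠ 0) (hw : w ≠ 0) : ∃ g : Iso B, g • v = w := by
  obtain ⟨g, hg, e⟩ := witt_family (B := B) hB (w := fun _ : Unit => v) (w' := fun _ : Unit => w)
    (LinearIndependent.of_subsingleton () hv) (LinearIndependent.of_subsingleton () hw) (by
      intro _ _
      exact (hB.self v).trans (hB.self w).symm)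
  exact ⟨⟨g, hg⟩, e ()⟩

/-- the orthogonality sums of the normalised characteristic function -/
theorem exists_lam' [Nontrivial V] (hB : SForm B) {K : Subgroup (Iso B)} {O : Set V} (hO : Orb K O) :
    ∃ lam : ℝ, ∀ z, sm (nf O) (perp B (Submodule.span F {z})) = lam * nf O z := by
  classical
  have hnK : ∀ g ∈ K, ∀ v, nf O (g • v) = nf O v := by
    intro g hg v
    have h0 : g • v = 0 ↔ v = 0 := LinearEquiv.map_eq_zero_iff g.1
    unfold nf
    simp only [hO.inv g hg, h0]
  refine exists_lam hO ?_ ?_ ?_ ?_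
  · rw [sm_perp_span]
    simp only [map_zero, if_true]
    exact sum_nf O
  · simp only [sm_perp_span]
    rw [Finset.sum_comm]
    have hcard : ∀ v : V, (∑ z : V, if B v z = 0 then nf O v else 0) * (Fintype.card F : ℝ) =
        nf O v * Fintype.card V := by
      intro v
      by_cases hv : v = 0
      · subst hv
        simp [nf_zero hO.zero]
      · rw [← Finset.sum_filter, Finset.sum_const, nsmul_eq_mul]
        have h1 : v ∉ perp B (⊤ : Submodule F V) := by
          intro h
          exact hv (hB.eq_zero fun y => h y trivial)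
        have h2 := card_ker (⊤ : Submodule F V) h1
        have h3 : Nat.card {z : (⊤ : Submodule F V) // B v z = 0} = (Finset.univ.filter fun z : V => B v z = 0).card := by
          rw [Nat.card_eq_fintype_card, ← Fintype.card_subtype]
          exact Fintype.card_congr ⟨fun z => ⟨z.1.1, z.2⟩, fun z => ⟨⟨z.1, trivial⟩, z.2⟩, fun _ => rfl, fun _ => rfl⟩
        have h4 : Nat.card (⊤ : Submodule F V) = Fintype.card V := by
          rw [← Nat.card_eq_fintype_card]
          exact Nat.card_congr (Equiv.subtypeUnivEquiv fun _ => trivial)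
        rw [h3, h4] at h2
        rw [mul_right_comm, ← Nat.cast_mul, h2, mul_comm]
    have hq : (Fintype.card F : ℝ) ≠ 0 := by exact_mod_cast Fintype.card_ne_zero
    have h5 : (∑ v : V, ∑ z : V, if B v z = 0 then nf O v else 0) * (Fintype.card F : ℝ) = 0 := by
      rw [Finset.sum_mul]
      simp only [hcard]
      rw [← Finset.sum_mul, sum_nf, zero_mul]
    exact (mul_eq_zero.1 h5).resolve_right hq
  · intro g hg z
    simp only [sm_perp_span]
    rw [← Equiv.sum_comp (MulAction.toPerm g : Equiv.Perm V)]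
    refine Finset.sum_congr rfl fun v _ => ?_
    rw [MulAction.toPerm_apply, hnK g hg]
    have : B (g • v) (g • z) = B v z := g.2 v z
    simp only [this]
  · intro c hc z
    simp only [sm_perp_span]
    refine Finset.sum_congr rfl fun v _ => ?_
    have : B v (c • z) = 0 ↔ B v z = 0 := by
      rw [map_smul, smul_eq_zero]
      exact ⟨fun h => h.resolve_left hc, Or.inr⟩
    simp only [this]

section Main

variable [Nontrivial V] [MulAction.IsPretransitive (Iso B) X] (x₀ : X) {r : X → ℝ}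

theorem sum_r (hr : Orth B r) : ∑ x, r x = 0 := by
  have h := hr 0 (fun i => i.elim0) (fun _ => 1) ⟨linearIndependent_empty_type, fun i => i.elim0⟩ (fun _ _ _ => rfl)
  simpa using h

theorem rd (h3 : Nat.card (MulAction.orbitRel.Quotient (MulAction.stabilizer (Iso B) x₀) X) ≤ 3) (hr : Orth B r)
    (hr0 : r ≠ 0) : Rd (Iso B) x₀ r :=
  ⟨inferInstance, h3, hr0, sum_r hr⟩

/-- the point kernel -/
theorem exists_F0 (hB : SForm B) {O : Set V} (hO : Orb (MulAction.stabilizer (Iso B) x₀) O) (hr : Orth B r) :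
    ∃ F₀ : Matrix X V ℝ, Inv (Iso B) F₀ ∧ (∀ v, F₀ x₀ v = nf O v) ∧ Zc F₀ ∧ F₀ ≠ 0 ∧ F₀.transpose.mulVec r = 0 := by
  classical
  have hnK : ∀ g ∈ MulAction.stabilizer (Iso B) x₀, ∀ v, nf O (g • v) = nf O v := by
    intro g hg v
    have h0 : g • v = 0 ↔ v = 0 := LinearEquiv.map_eq_zero_iff g.1
    unfold nf
    simp only [hO.inv g hg, h0]
  obtain ⟨F₀, hF, h0⟩ := exists_kernel x₀ hnK
  have hrow : ∀ (g : Iso B) v, F₀ (g • x₀) v = nf O (g⁻¹ • v) := by
    intro g v
    rw [← h0, ← hF g x₀, smul_inv_smul]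
  have hz : ∀ x, F₀ x 0 = 0 := by
    intro x
    obtain ⟨g, rfl⟩ := MulAction.exists_smul_eq (Iso B) x₀ x
    rw [hrow, smul_zero, nf_zero hO.zero]
  have hsc : ∀ x (c : F) v, c ≠ 0 → F₀ x (c • v) = F₀ x v := by
    intro x c v hc
    obtain ⟨g, rfl⟩ := MulAction.exists_smul_eq (Iso B) x₀ x
    rw [hrow, hrow]
    have h1 : g⁻¹ • c • v = c • g⁻¹ • v := map_smul g⁻¹.1 c v
    rw [h1]
    have h2 : c • g⁻¹ • v = 0 ↔ g⁻¹ • v = 0 := by
      rw [smul_eq_zero]
      exact ⟨fun h => h.resolve_left hc, Or.inr⟩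
    unfold nf
    simp only [hO.smul c hc, h2]
  have hcol : Zc F₀ := by
    have hm : ∀ (g : Iso B) v, ∑ x, F₀ x (g • v) = ∑ x, F₀ x v := by
      intro g v
      rw [← Equiv.sum_comp (MulAction.toPerm g : Equiv.Perm X)]
      exact Finset.sum_congr rfl fun x _ => hF g x v
    have hrs : ∀ x, ∑ v, F₀ x v = 0 := by
      intro x
      obtain ⟨g, rfl⟩ := MulAction.exists_smul_eq (Iso B) x₀ x
      rw [Finset.sum_congr rfl fun v _ => hrow g v, ← sum_nf O]
      exact Equiv.sum_comp (MulAction.toPerm g⁻¹ : Equiv.Perm V) (nf O)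
    obtain ⟨a, ha⟩ := exists_ne (0 : V)
    have hconst : ∀ v, v ≠ 0 → ∑ x, F₀ x v = ∑ x, F₀ x a := by
      intro v hv
      obtain ⟨g, rfl⟩ := exists_smul_nonzero hB ha hv
      exact hm g a
    have hm0 : ∑ x, F₀ x a = 0 := by
      have h1 : ∑ v : V, (if v = 0 then 0 else ∑ x, F₀ x a) = ∑ v : V, ∑ x, F₀ x v := by
        refine Finset.sum_congr rfl fun v _ => ?_
        split_ifs with hv
        · rw [hv]; simp only [hz, Finset.sum_const_zero]
        · exact (hconst v hv).symm
      rw [sum_ite_ne, Finset.sum_comm] at h1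
      simp only [hrs, Finset.sum_const_zero] at h1
      exact (mul_eq_zero.1 h1).resolve_right card_sub_ne
    intro v
    by_cases hv : v = 0
    · rw [hv]; simp only [hz, Finset.sum_const_zero]
    · rw [hconst v hv, hm0]
  refine ⟨F₀, hF, h0, hcol, ?_, ?_⟩
  · intro e
    obtain ⟨a, ha⟩ := hO.ne
    obtain ⟨b, hb0, hb⟩ := hO.ne'
    have h1 : nf O a = 0 := by rw [← h0, e]; rfl
    have h2 : nf O b = 0 := by rw [← h0, e]; rfl
    unfold nf at h1 h2
    have ha0 : a ≠ 0 := fun e => hO.zero (e ▸ ha)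
    rw [if_pos ha, if_neg ha0] at h1
    rw [if_neg hb, if_neg hb0] at h2
    linarith
  · funext v
    rw [Matrix.mulVec, Pi.zero_apply]
    change ∑ x, F₀ x v * r x = 0
    by_cases hv : v = 0
    · simp only [hv, hz, zero_mul, Finset.sum_const_zero]
    · refine hr 1 (fun _ => v) (fun x => F₀ x v) ⟨LinearIndependent.of_subsingleton 0 hv, fun _ _ => hB.self v⟩ ?_
      intro g hg x
      have h1 : g⁻¹ • v ∈ Submodule.span F {v} := by
        have h2 := hg 1
        rw [W_of_le _ le_rfl, Set.range_const] at h2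
        have h3 : v ∈ (Submodule.span F {v}).map (g.1 : V →ₗ[F] V) := by
          rw [h2]; exact Submodule.mem_span_singleton_self v
        obtain ⟨w, hw, e⟩ := h3
        have h4 : g⁻¹ • v = w := by
          rw [inv_smul_eq_iff]; exact e.symm
        rw [h4]; exact hw
      obtain ⟨c, hc⟩ := Submodule.mem_span_singleton.1 h1
      have hc0 : c ≠ 0 := by
        rintro rfl
        rw [zero_smul] at hc
        have := (smul_eq_iff_eq_inv_smul g).2 hc
        rw [smul_zero] at this
        exact hv this.symm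
      rw [← hF g⁻¹ (g • x) v, inv_smul_smul, ← hc, hsc x c v hc0]

/-- **Invariant functions on flags are affine functions of the intersection numbers.** -/
theorem aff (hB : SForm B) (h3 : Nat.card (MulAction.orbitRel.Quotient (MulAction.stabilizer (Iso B) x₀) X) ≤ 3)
    {O : Set V} (hO : Orb (MulAction.stabilizer (Iso B) x₀) O) (hr : Orth B r) (hr0 : r ≠ 0)
    {f : (Fin j → V) → ℝ} (hf : ∀ g ∈ MulAction.stabilizer (Iso B) x₀, ∀ u, f (g • u) = f u)
    (hfl : ∀ u u', Frame B u → Frame B u' → (∀ i, W F u i = W F u' i) → f u = f u') :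
    ∃ (a : ℝ) (α : ℕ → ℝ), ∀ u, Frame B u →
      f u = a + ∑ l ∈ Finset.range (j + 1), α l * (((W F u l : Set V) ∩ O).ncard : ℝ) := by
  classical
  have hRd := rd x₀ h3 hr hr0
  obtain ⟨F₀, hF₀, h0, hz0, hne0, hr00⟩ := exists_F0 x₀ hB hO hr
  obtain ⟨lam, hlam⟩ := exists_lam' hB hO
  obtain ⟨γ, hγ, hfac⟩ := hRd.factor hF₀ hz0 hne0 hr00
  by_cases hex : ∃ u : Fin j → V, Frame B u
  swap
  · exact ⟨0, fun _ => 0, fun u hu => absurd ⟨u, hu⟩ hex⟩
  obtain ⟨u₁, hu₁⟩ := hex
  obtain ⟨A, hA, hA0⟩ := exists_kernel x₀ hf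
  have hcardX : (Fintype.card X : ℝ) ≠ 0 := by
    have : Nonempty X := ⟨x₀⟩
    exact_mod_cast Fintype.card_ne_zero
  set m₁ : ℝ := (∑ x, A x u₁) / Fintype.card X with hm₁
  have hframe : ∀ (g : Iso B) (u : Fin j → V), Frame B (g • u) ↔ Frame B u := by
    intro g u
    refine ⟨fun h => ?_, fun h => frame_smul h g⟩
    have := frame_smul h g⁻¹
    rwa [inv_smul_smul] at this
  let Fm : Matrix X (Fin j → V) ℝ := fun x u => if Frame B u then A x u - m₁ else 0
  have hFm : ∀ x u, Frame B u → Fm x u = A x u - m₁ := fun x u hu => if_pos hu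
  have hFi : Inv (Iso B) Fm := by
    intro g x u
    change (if Frame B (g • u) then A (g • x) (g • u) - m₁ else 0) = if Frame B u then A x u - m₁ else 0
    simp only [hframe, hA g x u]
  have hFz : Zc Fm := by
    intro u
    by_cases hu : Frame B u
    · simp only [hFm _ u hu]
      obtain ⟨g, hg, e⟩ := exists_frame_map hB hu₁ hu
      have e' : (⟨g, hg⟩ : Iso B) • u₁ = u := funext e
      have h1 : ∑ x, A x u = ∑ x, A x u₁ := by
        rw [← e', ← Equiv.sum_comp (MulAction.toPerm (⟨g, hg⟩ : Iso B) : Equiv.Perm X)]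
        exact Finset.sum_congr rfl fun x _ => hA _ x u₁
      rw [Finset.sum_sub_distrib, h1, Finset.sum_const, Finset.card_univ, nsmul_eq_mul, hm₁, mul_div_cancel₀ _ hcardX,
        sub_self]
    · refine Finset.sum_eq_zero fun x _ => ?_
      exact if_neg hu
  -- flag invariance of the kernel
  have hFfl : ∀ x u u', Frame B u → Frame B u' → (∀ i, W F u i = W F u' i) → Fm x u = Fm x u' := by
    intro x u u' hu hu' hW
    obtain ⟨g, rfl⟩ := MulAction.exists_smul_eq (Iso B) x₀ x
    rw [hFm _ _ hu, hFm _ _ hu', ← hA g⁻¹ (g • x₀) u, ← hA g⁻¹ (g • x₀) u', inv_smul_smul, hA0, hA0]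
    rw [hfl _ _ (frame_smul hu g⁻¹) (frame_smul hu' g⁻¹) (fun i => by rw [W_smul, W_smul, hW])]
  have hFr : Fm.transpose.mulVec r = 0 := by
    funext u
    rw [Matrix.mulVec, Pi.zero_apply]
    change ∑ x, Fm x u * r x = 0
    by_cases hu : Frame B u
    · refine hr j u (fun x => Fm x u) hu fun g hg x => ?_
      rw [← hFi g⁻¹ (g • x) u, inv_smul_smul]
      refine hFfl x _ _ (frame_smul hu _) hu fun i => ?_
      rw [W_smul]
      have h1 := hg i
      have h2 : (W F u i) = ((W F u i).map (g.1 : V →ₗ[F] V)).map (g⁻¹.1 : V →ₗ[F] V) := by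
        ext v
        constructor
        · intro hv
          exact ⟨g • v, ⟨v, hv, rfl⟩, inv_smul_smul g v⟩
        · rintro ⟨_, ⟨w, hw, rfl⟩, rfl⟩
          have : (g⁻¹.1 : V →ₗ[F] V) ((g.1 : V →ₗ[F] V) w) = w := inv_smul_smul g w
          rw [this]; exact hw
      rw [h1] at h2
      exact h2.symm
    · refine Finset.sum_eq_zero fun x _ => ?_
      rw [show Fm x u = 0 from if_neg hu, zero_mul]
  have hmain := hfac hFi hFz hFr
  set C : Matrix V (Fin j → V) ℝ := F₀.transpose * Fm with hC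
  have hCi : Inv (Iso B) C := hF₀.transpose.mul hFi
  have hCfl : ∀ v u u', Frame B u → Frame B u' → (∀ i, W F u i = W F u' i) → C v u = C v u' := by
    intro v u u' hu hu' hW
    rw [hC, Matrix.mul_apply, Matrix.mul_apply]
    exact Finset.sum_congr rfl fun x _ => by rw [hFfl x u u' hu hu' hW]
  have hCcl : ∀ u u' v v', Frame B u → Frame B u' → v ≠ 0 → cl B u v = cl B u' v' → C v u = C v' u' := by
    intro u u' v v' hu hu' hv hcl
    obtain ⟨g, hg, e, hW⟩ := exists_flag_map hB hu hu' hv hcl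
    rw [← hCi ⟨g, hg⟩ v u]
    have e1 : (⟨g, hg⟩ : Iso B) • v = v' := e
    rw [e1]
    exact hCfl v' _ _ (frame_smul hu _) hu' fun i => by rw [W_smul]; exact hW i
  -- the function of the position
  let gg : ℕ → ℝ := fun n => if h : ∃ p : (Fin j → V) × V, Frame B p.1 ∧ p.2 ≠ 0 ∧ cl B p.1 p.2 = n then
    C h.choose.2 h.choose.1 else 0
  have hgg : ∀ u v, Frame B u → v ≠ 0 → C v u = gg (cl B u v) := by
    intro u v hu hv
    have hex : ∃ p : (Fin j → V) × V, Frame B p.1 ∧ p.2 ≠ 0 ∧ cl B p.1 p.2 = cl B u v := ⟨(u, v), hu, hv, rfl⟩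
    have e1 : gg (cl B u v) = C hex.choose.2 hex.choose.1 := dif_pos hex
    rw [e1]
    obtain ⟨h1, h2, h3⟩ := hex.choose_spec
    exact (hCcl _ _ _ _ h1 hu h2 h3).symm
  have hlin : Lin B j (nf O) (fun u => γ⁻¹ * ∑ i ∈ Finset.range (2 * j + 1), (gg i - gg (i + 1)) * sm (nf O) (Ch B u i)) :=
    (Lin.sum _ fun i _ => (lin_Ch (sum_nf O) hlam i).const_mul _).const_mul _
  obtain ⟨α, hα⟩ := hlin
  refine ⟨m₁ - ∑ l ∈ Finset.range (j + 1), α l * ((O.ncard : ℝ) / ((Fintype.card V : ℝ) - 1) *
    ((Fintype.card F : ℝ) ^ l - 1)), α, fun u hu => ?_⟩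
  have h1 : γ * Fm x₀ u = ∑ v, nf O v * C v u := by
    have := congrFun (congrFun hmain x₀) u
    rw [Matrix.smul_apply, smul_eq_mul, Matrix.mul_apply] at this
    rw [this]
    exact Finset.sum_congr rfl fun v _ => by rw [h0]
  rw [sum_eq hB hu (nf_zero hO.zero) (sum_nf O) (fun v hv => hgg u v hu hv)] at h1
  have h2 : Fm x₀ u = ∑ l ∈ Finset.range (j + 1), α l * sm (nf O) (W F u l) := by
    rw [← hα u hu]
    beta_reduce
    rw [← h1, ← mul_assoc, inv_mul_cancel₀ hγ, one_mul]
  rw [hFm _ _ hu, hA0] at h2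
  have h3 : f u = m₁ + ∑ l ∈ Finset.range (j + 1), α l * sm (nf O) (W F u l) := by linarith
  rw [h3, sub_add, ← Finset.sum_sub_distrib, sub_eq_add_neg, ← Finset.sum_neg_distrib]
  congr 1
  refine Finset.sum_congr rfl fun l hl => ?_
  have hl' : l ≤ j := by have := Finset.mem_range.1 hl; omega
  rw [sm_nf, Module.natCard_eq_pow_finrank (K := F), finrank_W hu.li hl', Nat.card_eq_fintype_card]
  push_cast
  ring

end Main

end Cfsg.Agent.H91.FlagFun
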