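import Cfsg.Agent.ChevalleyStructure.UnipProd
import Cfsg.Agent.ChevalleyStructure.NPerm
import Cfsg.Agent.ChevalleyStructure.BruhatSplit
import Cfsg.Agent.S1049

/-!
# Elements of `N` commuting with a symmetry of the roots

`mem_diagonal_of_posAct` : an element of `N` mapping positive roots to positive roots lies in `H`.
`exists_relWord` : let `ρ` be a permutation of the roots and `Js` a list of lists of pairwise orthogonal simple
roots forming the `ρ`-orbits of simple roots. A word `w` commuting with `ρ` acts as a product of the words in `Js`.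
-/

set_option autoImplicit false

namespace Cfsg.Agent.H91.MonoWord

open Cfsg.Lie Cfsg.Agent.ChevalleyStructure Cfsg.Agent.ChevalleyStructure.Elts
  Cfsg.Agent.ChevalleyStructure.UnipProd
  Cfsg.Agent.ChevalleyStructure.BruhatSplit Cfsg.Agent.ChevalleyStructure.RootCombGood
  Cfsg.Agent.ChevalleyStructure.RootWord

universe u

variable {D : ChevalleyDatum} {F : Type u} [Field F]

/-- An element of `N` preserving the positive roots lies in `H`. -/
theorem mem_diagonal_of_posAct (hD : InList D) {m : GL D.Idx F} (hm : m ∈ D.monomialSubgroup F) {w : List ℕ}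
    (hw : ∀ a ∈ w, a < D.rank) (hact : Acts m w) (hpos : ∀ r, D.IsPosRoot r → D.IsPosRoot (wact D w r)) :
    m ∈ D.diagonalSubgroup F := by
  have G := RootComb.good_of_mem hD
  have hwr : ∀ a ∈ w.reverse, a < D.rank := fun a ha => hw a (by simpa using ha)
  have hpos' : ∀ r, D.IsPosRoot r → D.IsPosRoot (wact D w.reverse r) := by
    intro r hr
    rcases pos_or_neg G (wact_lt G hwr hr.1) with h1 | h1
    · exact h1
    · exfalso
      have h2 := hpos _ ((isPosRoot_neg G (wact_lt G hwr hr.1)).2 h1)
      rw [wact_neg G hw (wact_lt G hwr hr.1), wact_reverse' G hw hr.1, isPosRoot_neg G hr.1] at h2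
      exact not_pos_of_neg G h2 hr
  have key : ∀ {g : GL D.Idx F} {w : List ℕ}, BruhatSplit.Acts g w →
      (∀ r, D.IsPosRoot r → D.IsPosRoot (wact D w r)) →
      ∀ u ∈ D.posUnipotent F, g * u * g⁻¹ ∈ D.posUnipotent F := by
    intro g w hg hp u hu
    have h1 : D.posUnipotent F ≤ (D.posUnipotent F).comap (MulAut.conj g).toMonoidHom := by
      rw [posUnipotent_le_iff hD]
      intro r hr t
      have h2 := Subgroup.mem_map_of_mem (MulAut.conj g).toMonoidHom (xG_mem_rootSubgroup hD r t)
      rw [hg r hr.1] at h2
      exact rootSubgroup_le_pos hD (hp r hr) h2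
    exact h1 hu
  have hmN : m ∈ Subgroup.normalizer (D.posUnipotent F : Set (GL D.Idx F)) := by
    rw [Subgroup.mem_normalizer_iff]
    intro u
    refine ⟨fun hu => key hact hpos u hu, fun hu => ?_⟩
    have h1 := key (BruhatSplit.Acts.inv G hact hw) hpos' _ hu
    have h2 : m⁻¹ * (m * u * m⁻¹) * m⁻¹⁻¹ = u := by group
    rwa [h2] at h1
  have hU : D.unipotentRadical F ∅ = D.posUnipotent F := by
    apply le_antisymm
    · refine (Subgroup.closure_le _).2 ?_
      rintro x ⟨r, t, hr, -, hx⟩
      exact Subgroup.subset_closure ⟨r, t, hr, hx⟩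
    · rw [posUnipotent_le_iff hD]
      intro r hr t
      refine Subgroup.subset_closure ⟨r, t, hr, ?_, coe_xG hD r t⟩
      rintro ⟨-, h1⟩
      obtain ⟨j, hj, h2⟩ := G.co_ne_zero hr.1
      exact h2 (h1 j hj (Set.notMem_empty j))
  have hB : D.parabolicSubgroup F ∅ = D.borelSubgroup F := by
    have : {g : GL D.Idx F | ∃ j ∈ (∅ : Set ℕ), j < D.rank ∧ (g : Matrix D.Idx D.Idx F) = D.nMat F (D.simple j) 1} = ∅ := by
      ext g
      constructor
      · rintro ⟨j, hj, -⟩
        exact hj
      · intro h
        exact absurd h (Set.notMem_empty g)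
    show D.borelSubgroup F ⊔ Subgroup.closure _ = _
    rw [this, Subgroup.closure_empty, sup_bot_eq]
  have h1 : m ∈ D.borelSubgroup F := by
    rw [← hB, ← Cfsg.Agent.S1049.result (F := F) D hD ∅ (fun j hj => absurd hj (Set.notMem_empty j)), hU]
    exact ⟨hmN, monomial_le_group hD F hm⟩
  rw [← (Cfsg.Agent.S1040.result (F := F) D hD).2]
  exact ⟨h1, hm⟩

/-- Elements of `N` acting the same way on the roots differ by an element of `H`. -/
theorem mul_inv_mem_diagonal (hD : InList D) {n m : GL D.Idx F} (hn : n ∈ D.monomialSubgroup F)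
    (hm : m ∈ D.monomialSubgroup F) {v w : List ℕ} (hv : ∀ a ∈ v, a < D.rank) (hw : ∀ a ∈ w, a < D.rank)
    (hactn : Acts n w) (hactm : Acts m v) (h : ∀ r < D.nroots, wact D v r = wact D w r) :
    n * m⁻¹ ∈ D.diagonalSubgroup F := by
  have G := RootComb.good_of_mem hD
  have h1 : Acts (n * m⁻¹) (w ++ v.reverse) := Acts.mul G hactn (Acts.inv G hactm hv) (by simpa using hv)
  have hvr : ∀ a ∈ v.reverse, a < D.rank := fun a ha => hv a (by simpa using ha)
  refine mem_diagonal_of_posAct hD (Subgroup.mul_mem _ hn (Subgroup.inv_mem _ hm)) (w := w ++ v.reverse) ?_ h1 ?_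
  · intro a ha
    rcases List.mem_append.1 ha with ha | ha
    · exact hw a ha
    · exact hvr a ha
  · intro r hr
    rw [wact_append, ← h _ (wact_lt G hvr hr.1), wact_reverse' G hv hr.1]
    exact hr

theorem exists_mono (hD : InList D) (F : Type u) [Field F] {w : List ℕ} (hw : ∀ a ∈ w, a < D.rank) :
    ∃ n ∈ D.monomialSubgroup F, Acts n w := by
  have G := RootComb.good_of_mem hD
  induction w with
  | nil => exact ⟨1, Subgroup.one_mem _, acts_one⟩
  | cons i w ih =>
    have hw' : ∀ a ∈ w, a < D.rank := fun a ha => hw a (List.mem_cons_of_mem _ ha)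
    obtain ⟨n, hn, hact⟩ := ih hw'
    have hi : i < D.rank := hw i List.mem_cons_self
    have h1 : Acts (nG hD (D.simple i) (1 : F)) [i] := acts_nG_simple hD hi
    have h2 : Acts (nG hD (D.simple i) (1 : F) * n) ([i] ++ w) := Acts.mul G h1 hact hw'
    exact ⟨_, Subgroup.mul_mem _ (NPerm.nG_simple_mem hD F hi) hn, h2⟩

/-- A word preserving the positive roots acts trivially. -/
theorem wact_eq_of_pos (hD : InList D) {w : List ℕ} (hw : ∀ a ∈ w, a < D.rank)
    (hpos : ∀ r, D.IsPosRoot r → D.IsPosRoot (wact D w r)) {r : ℕ} (hr : r < D.nroots) : wact D w r = r := by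
  have G := RootComb.good_of_mem hD
  obtain ⟨n, hn, hact⟩ := exists_mono hD ℚ hw
  have h1 := mem_diagonal_of_posAct hD hn hw hact hpos
  have h2 := acts_of_mem_diagonal hD G h1
  have h3 := hact r hr
  rw [h2 r hr] at h3
  exact (NPerm.rootSubgroup_injective hD ℚ (by rw [wact_nil]; exact hr) (wact_lt G hw hr) h3).symm

theorem prod_nG_acts (hD : InList D) (F : Type u) [Field F] (M : List ℕ) (hM : ∀ j ∈ M, j < D.rank) :
    (M.map fun j => nG hD (D.simple j) (1 : F)).prod ∈ D.monomialSubgroup F ∧
      Acts ((M.map fun j => nG hD (D.simple j) (1 : F)).prod) M := by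
  have G := RootComb.good_of_mem hD
  induction M with
  | nil => exact ⟨Subgroup.one_mem _, acts_one⟩
  | cons j M ihM =>
    have hM' : ∀ k ∈ M, k < D.rank := fun k hk => hM k (List.mem_cons_of_mem _ hk)
    obtain ⟨h1, h2⟩ := ihM hM'
    have hj : j < D.rank := hM j List.mem_cons_self
    rw [List.map_cons, List.prod_cons]
    refine ⟨Subgroup.mul_mem _ (NPerm.nG_simple_mem hD F hj) h1, ?_⟩
    have h3 : Acts (nG hD (D.simple j) (1 : F)) [j] := acts_nG_simple hD hj
    have h4 := Acts.mul G h3 h2 hM'
    rwa [List.singleton_append] at h4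

/-- A product of monomial elements acting along a list of words. -/
theorem exists_prod_acts (hD : InList D) {P : GL D.Idx F → Prop} (h1 : P 1)
    (hmul : ∀ a b, P a → P b → P (a * b)) (L : List (List ℕ)) (hlt : ∀ J ∈ L, ∀ j ∈ J, j < D.rank)
    (hP : ∀ J ∈ L, P ((J.map fun j => nG hD (D.simple j) (1 : F)).prod)) :
    ∃ m ∈ D.monomialSubgroup F, P m ∧ Acts m L.flatten := by
  have G := RootComb.good_of_mem hD
  induction L with
  | nil => exact ⟨1, Subgroup.one_mem _, h1, acts_one⟩
  | cons J L ih =>
    obtain ⟨m, hm, hmt, hact⟩ := ih (fun J' hJ' => hlt J' (List.mem_cons_of_mem _ hJ'))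
      fun J' hJ' => hP J' (List.mem_cons_of_mem _ hJ')
    obtain ⟨h2, h3⟩ := prod_nG_acts hD F J (hlt J List.mem_cons_self)
    refine ⟨_, Subgroup.mul_mem _ h2 hm, hmul _ _ (hP J List.mem_cons_self) hmt, ?_⟩
    rw [List.flatten_cons]
    refine Acts.mul G h3 hact fun j hj => ?_
    obtain ⟨J', hJ', hj'⟩ := List.mem_flatten.1 hj
    exact hlt J' (List.mem_cons_of_mem _ hJ') j hj'

/-- Relative words. `Js` : the list of the `ρ`-orbits of simple roots, each consisting of pairwise orthogonal roots. -/
structure RelOK (D : ChevalleyDatum) (ρ : ℕ → ℕ) (Js : List (List ℕ)) : Prop where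
  lt : ∀ J ∈ Js, ∀ i ∈ J, i < D.rank
  cover : ∀ i < D.rank, ∃ J ∈ Js, i ∈ J
  comm : ∀ J ∈ Js, ∀ r < D.nroots, ρ (wact D J r) = wact D J (ρ r)
  /-- the simple roots of an orbit are powers of `ρ` of each other; stated for lists `pre ++ [i]` -/
  orth : ∀ J ∈ Js, ∀ i ∈ J, ∀ j ∈ J, i ≠ j → D.reflectRoot i (D.simple j) = D.simple j
  orbit : ∀ J ∈ Js, ∀ i ∈ J, ∀ j ∈ J, ∃ k : ℕ, ρ^[k] (D.simple i) = D.simple j
  pos : ∀ r < D.nroots, (D.IsNegRoot (ρ r) ↔ D.IsNegRoot r)
  nodup : ∀ J ∈ Js, J.Nodup
  ρlt : ∀ r < D.nroots, ρ r < D.nroots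

theorem inv_append_list (hD : InList D) {w : List ℕ} (hw : ∀ a ∈ w, a < D.rank) (J : List ℕ)
    (hJ : ∀ i ∈ J, i < D.rank) (hnd : J.Nodup)
    (horth : ∀ i ∈ J, ∀ j ∈ J, i ≠ j → D.reflectRoot i (D.simple j) = D.simple j)
    (hneg : ∀ i ∈ J, D.IsNegRoot (wact D w (D.simple i))) : inv D (w ++ J) + J.length = inv D w := by
  have G := RootComb.good_of_mem hD
  induction J generalizing w with
  | nil => simp
  | cons i J ih =>
    have hi : i < D.rank := hJ i List.mem_cons_self
    have hw' : ∀ a ∈ w ++ [i], a < D.rank := by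
      intro a ha
      rcases List.mem_append.1 ha with ha | ha
      · exact hw a ha
      · rw [List.mem_singleton] at ha; rw [ha]; exact hi
    have h1 := inv_append_of_neg G hw hi (hneg i List.mem_cons_self)
    have h2 := ih (w := w ++ [i]) hw' (fun j hj => hJ j (List.mem_cons_of_mem _ hj)) (List.nodup_cons.1 hnd).2
      (fun a ha b hb hab => horth a (List.mem_cons_of_mem _ ha) b (List.mem_cons_of_mem _ hb) hab) (by
        intro j hj
        rw [wact_append, wact_cons, wact_nil, horth i List.mem_cons_self j (List.mem_cons_of_mem _ hj) (by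
          rintro rfl
          exact (List.nodup_cons.1 hnd).1 hj)]
        exact hneg j (List.mem_cons_of_mem _ hj))
    rw [List.append_assoc, List.singleton_append] at h2
    rw [List.length_cons]
    omega

theorem exists_relWord (hD : InList D) {ρ : ℕ → ℕ} {Js : List (List ℕ)} (R : RelOK D ρ Js) (w : List ℕ)
    (hw : ∀ a ∈ w, a < D.rank) (hcomm : ∀ r < D.nroots, ρ (wact D w r) = wact D w (ρ r)) :
    ∃ L : List (List ℕ), (∀ J ∈ L, J ∈ Js) ∧ ∀ r < D.nroots, wact D L.flatten r = wact D w r := by
  have G := RootComb.good_of_mem hD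
  induction hn : inv D w using Nat.strong_induction_on generalizing w with
  | _ k ih =>
    by_cases hk : inv D w = 0
    · rw [inv_eq_zero_iff G hw] at hk
      refine ⟨[], by simp, fun r hr => ?_⟩
      rw [wact_eq_of_pos hD hw hk hr]
      rfl
    · have hex : ∃ r, D.IsPosRoot r ∧ D.IsNegRoot (wact D w r) := by
        by_contra hcon
        push Not at hcon
        apply hk
        rw [inv_eq_zero_iff G hw]
        intro r hr
        rcases pos_or_neg G (wact_lt G hw hr.1) with h' | h'
        · exact h'
        · exact absurd h' (hcon r hr)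
      obtain ⟨i, hi, hneg⟩ := exists_simple_neg G hw hex
      obtain ⟨J, hJ, hiJ⟩ := R.cover i hi
      have hiter : ∀ k : ℕ, ∀ r < D.nroots, D.IsNegRoot (wact D w r) → D.IsNegRoot (wact D w (ρ^[k] r)) := by
        intro k
        induction k with
        | zero => intro r _ h; exact h
        | succ k ihk =>
          intro r hr h
          rw [Function.iterate_succ_apply]
          refine ihk _ (R.ρlt r hr) ?_
          rw [← hcomm r hr]
          exact (R.pos _ (wact_lt G hw hr)).2 h
      have hJneg : ∀ j ∈ J, D.IsNegRoot (wact D w (D.simple j)) := by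
        intro j hj
        obtain ⟨k, hk⟩ := R.orbit J hJ i hiJ j hj
        rw [← hk]
        exact hiter k _ (G.simple_lt hi) hneg
      have h1 := inv_append_list hD hw J (R.lt J hJ) (R.nodup J hJ) (R.orth J hJ) hJneg
      have hlen : 0 < J.length := List.length_pos_of_mem hiJ
      have hwJ : ∀ a ∈ w ++ J, a < D.rank := by
        intro a ha
        rcases List.mem_append.1 ha with ha | ha
        · exact hw a ha
        · exact R.lt J hJ a ha
      obtain ⟨L, hL, hLw⟩ := ih (inv D (w ++ J)) (by omega) (w ++ J) hwJ (by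
        intro r hr
        rw [wact_append, wact_append, hcomm _ (wact_lt G (R.lt J hJ) hr), R.comm J hJ r hr]) rfl
      refine ⟨L ++ [J], ?_, fun r hr => ?_⟩
      · intro a ha
        rcases List.mem_append.1 ha with ha | ha
        · exact hL a ha
        · rw [List.mem_singleton] at ha; rw [ha]; exact hJ
      · rw [List.flatten_append, wact_append, hLw _ (wact_lt G (by simpa using R.lt J hJ) hr), wact_append]
        congr 1
        have h2 : [J].flatten = J := by simp
        rw [h2]
        -- `J` is an involution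
        have h3 : ∀ (L : List ℕ), (∀ a ∈ L, a < D.rank) →
            (∀ i ∈ L, ∀ j ∈ L, i ≠ j → D.reflectRoot i (D.simple j) = D.simple j) → L.Nodup →
            ∀ r < D.nroots, wact D L (wact D L r) = r := by
          intro L
          induction L with
          | nil => intro _ _ _ r _; rfl
          | cons i L ihL =>
            intro h4 h5 h6 r hr
            have hi : i < D.rank := h4 i List.mem_cons_self
            have hL : ∀ a ∈ L, a < D.rank := fun a ha => h4 a (List.mem_cons_of_mem _ ha)
            have hcm : ∀ (M : List ℕ), (∀ a ∈ M, a ∈ L) → ∀ r < D.nroots, wact D M (D.reflectRoot i r) = D.reflectRoot i (wact D M r) := by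
              intro M
              induction M with
              | nil => intro _ r _; rfl
              | cons j M ihM =>
                intro h7 r hr
                have hj : j < D.rank := hL j (h7 j List.mem_cons_self)
                have hji : j ≠ i := by
                  rintro rfl
                  exact (List.nodup_cons.1 h6).1 (h7 j List.mem_cons_self)
                have hM : ∀ a ∈ M, a < D.rank := fun a ha => hL a (h7 a (List.mem_cons_of_mem _ ha))
                rw [wact_cons, wact_cons, ihM (fun a ha => h7 a (List.mem_cons_of_mem _ ha)) r hr]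
                have h8 := wact_lt G hM hr
                generalize wact D M r = s at h8
                -- commuting reflections
                refine G.co_inj (G.reflect_lt hj (G.reflect_lt hi h8)) (G.reflect_lt hi (G.reflect_lt hj h8)) fun k hk => ?_
                have e1 := h5 i List.mem_cons_self j (List.mem_cons_of_mem _ (h7 j List.mem_cons_self)) (Ne.symm hji)
                have e2 := h5 j (List.mem_cons_of_mem _ (h7 j List.mem_cons_self)) i List.mem_cons_self hji
                have c1 : car D (D.reflectRoot i s) (D.simple j) = car D s (D.simple j) := by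
                  conv_lhs => rw [← e1]
                  exact car_reflect G hi h8 (G.simple_lt hj)
                have c2 : car D (D.reflectRoot j s) (D.simple i) = car D s (D.simple i) := by
                  conv_lhs => rw [← e2]
                  exact car_reflect G hj h8 (G.simple_lt hi)
                rw [G.co_reflect hj (G.reflect_lt hi h8) hk, G.co_reflect hi h8 hk,
                  G.co_reflect hi (G.reflect_lt hj h8) hk, G.co_reflect hj h8 hk, c1, c2]
                ring
            rw [wact_cons, wact_cons, hcm L (fun a ha => ha) _ (wact_lt G hL hr), G.reflect_reflect hi (wact_lt G hL (wact_lt G hL hr))]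
            exact ihL hL (fun a ha b hb => h5 a (List.mem_cons_of_mem _ ha) b (List.mem_cons_of_mem _ hb))
              (List.nodup_cons.1 h6).2 r hr
        exact h3 J (R.lt J hJ) (R.orth J hJ) (R.nodup J hJ) r hr

end Cfsg.Agent.H91.MonoWord
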