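import Mathlib
import Cfsg.Agent.H91.PguModel

/-!
# The centraliser of an involution in the group of linear automorphisms of `PSU(3, q)`, `q > 2` even

* `CentProp C S` : all involutions of `C` are central, `C` has a normal Sylow 2-subgroup, isomorphic to `S`, and no
  nontrivial normal subgroup of odd order;
* `centProp_CC`.
-/

set_option autoImplicit false

open Pointwise

namespace Cfsg.Agent.H91.Pgu

open Cfsg Cfsg.Agent.LieClassical.HermBasic Cfsg.Agent.LieClassical.HermSiegel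
open Cfsg.Agent.ClassicalGeometry.UnitAutBasic (c0 T tau tau_def act_T_smul exists_c0_mul_norm
  tau_eq_tau_iff tau_smul_congr iso_smul tau_eq_one_iff tau_comm_iff c0_ne_zero tau_mul conj_tau)
open Cfsg.Agent.ClassicalGeometry.PSUAutCount (gm toAut toAut_tau exists_r eq_of_toAut_eq herm_semi)
open Cfsg.Agent.FooteExc (Pack)
open Cfsg.Agent.KFacts.OutCyc.PSU (rho rho_spec rho_toAut rho_conj toAut_mul)

section Model

variable {F : Type*} [Field F] [Fintype F] {q : ℕ}

/-- rank one data with `S` a Sylow 2-subgroup -/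
theorem exists_pack [CharP F 2] (hF : Fintype.card F = q ^ 2) (hq : 2 < q) :
    ∃ (H : Subgroup (PSU 3 F q)) (S : Sylow 2 (PSU 3 F q)) (w : PSU 3 F q), Pack H (S : Subgroup (PSU 3 F q)) w := by
  have : Fact (Nat.Prime 2) := ⟨Nat.prime_two⟩
  have hfin := finite_PSU hF
  obtain ⟨n, hn, rfl⟩ := exists_eq_two_pow hF hq
  have hF' : Nat.card F = (2 ^ n) ^ 2 := by rw [Nat.card_eq_fintype_card, hF]
  obtain ⟨h2, σ, hinv, hs, -, he⟩ :=
    Cfsg.Agent.LieRecognition.PSUThreeSylow.exists_heis_equiv F (show 1 ≤ n by omega) hF'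
  obtain ⟨H, S, w, hp⟩ := Cfsg.Agent.FooteExc.exists_pack_psu (σ := σ) hn hs hF'
  exact ⟨H, hp.two.toSylow hp.odd, w, hp⟩

/-- distinct Sylow 2-subgroups intersect trivially -/
theorem sylow_ti [CharP F 2] (hF : Fintype.card F = q ^ 2) (hq : 2 < q)
    (P Q : Sylow 2 (PSU 3 F q)) {x : PSU 3 F q} (hx1 : x ≠ 1) (hP : x ∈ P) (hQ : x ∈ Q) : P = Q := by
  have : Fact (Nat.Prime 2) := ⟨Nat.prime_two⟩
  have hfin := finite_PSU hF
  obtain ⟨H, S, w, hp⟩ := exists_pack hF hq
  obtain ⟨a, rfl⟩ := MulAction.exists_smul_eq (PSU 3 F q) S P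
  obtain ⟨b, rfl⟩ := MulAction.exists_smul_eq (PSU 3 F q) S Q
  have key : ∀ g y : PSU 3 F q, y ≠ 1 → y ∈ S → g⁻¹ * y * g ∈ S → g ∈ H := by
    intro g y hy1 hy hgy
    by_contra hgH
    obtain ⟨s, hs, hb⟩ := hp.data.bruhat g hgH
    set h := (s * w)⁻¹ * g with hh
    have e : w⁻¹ * (s⁻¹ * y * s) * w = h * (g⁻¹ * y * g) * h⁻¹ := by rw [hh]; group
    have h1 : w⁻¹ * (s⁻¹ * y * s) * w ∈ H := by
      rw [e]; exact hp.data.le (hp.data.norm h hb _ hgy)
    have h2 := hp.data.inter (s⁻¹ * y * s) (mul_mem (mul_mem (inv_mem hs) hy) hs) h1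
    apply hy1
    have h3 : y = s * (s⁻¹ * y * s) * s⁻¹ := by group
    rw [h3, h2]; group
  have ha : a⁻¹ * x * a ∈ (S : Subgroup (PSU 3 F q)) := by
    have := (Subgroup.mem_pointwise_smul_iff_inv_smul_mem (a := MulAut.conj a)
      (S := (S : Subgroup (PSU 3 F q))) (x := x)).1 hP
    simpa [MulAut.smul_def, ← map_inv, MulAut.conj_apply] using this
  have hb : b⁻¹ * x * b ∈ (S : Subgroup (PSU 3 F q)) := by
    have := (Subgroup.mem_pointwise_smul_iff_inv_smul_mem (a := MulAut.conj b)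
      (S := (S : Subgroup (PSU 3 F q))) (x := x)).1 hQ
    simpa [MulAut.smul_def, ← map_inv, MulAut.conj_apply] using this
  have h1 := key (a⁻¹ * b) (a⁻¹ * x * a) (by
    intro h; apply hx1
    have h3 : x = a * (a⁻¹ * x * a) * a⁻¹ := by group
    rw [h3, h]; group) ha (by
    have e : (a⁻¹ * b)⁻¹ * (a⁻¹ * x * a) * (a⁻¹ * b) = b⁻¹ * x * b := by group
    rw [e]; exact hb)
  rw [← hp.mem_normalizer] at h1
  have h2 : (a⁻¹ * b) • S = S := Sylow.smul_eq_iff_mem_normalizer.2 h1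
  rw [mul_smul, inv_smul_eq_iff] at h2
  exact h2.symm

theorem center_eq_one [CharP F 2] (hF : Fintype.card F = q ^ 2) (hq : 2 < q) {z : PSU 3 F q}
    (hz : ∀ x, z * x = x * z) : z = 1 := by
  obtain ⟨H, S, w, hp⟩ := exists_pack hF hq
  have h1 : z ∈ H := by
    rw [← hp.mem_normalizer, Subgroup.mem_normalizer_iff]
    intro x
    rw [hz x, mul_inv_cancel_right]
  apply hp.core
  intro k
  have e : k⁻¹ * z * k = z := by rw [mul_assoc, hz k, inv_mul_cancel_left]
  rwa [e]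

theorem conj_injective [CharP F 2] (hF : Fintype.card F = q ^ 2) (hq : 2 < q) :
    Function.Injective (MulAut.conj : PSU 3 F q →* MulAut (PSU 3 F q)) := by
  rw [injective_iff_map_eq_one]
  intro z hz
  apply center_eq_one hF hq
  intro x
  have h1 := DFunLike.congr_fun hz x
  rw [MulAut.conj_apply, MulAut.one_apply] at h1
  rw [mul_inv_eq_iff_eq_mul] at h1
  exact h1

/-- an automorphism which centralises a Sylow 2-subgroup is the conjugation with one of its elements -/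
theorem exists_conj_of_fix [CharP F 2] (hF : Fintype.card F = q ^ 2) (hq : 2 < q)
    (P : Sylow 2 (PSU 3 F q)) (α : MulAut (PSU 3 F q)) (hα : ∀ x ∈ P, α x = x) :
    ∃ s ∈ P, α = MulAut.conj s := by
  have : Fact (Nat.Prime 2) := ⟨Nat.prime_two⟩
  have hfin := finite_PSU hF
  obtain ⟨H, S, w, hp⟩ := exists_pack hF hq
  obtain ⟨a, rfl⟩ := MulAction.exists_smul_eq (PSU 3 F q) S P
  have hmem : ∀ s ∈ (S : Subgroup (PSU 3 F q)), a * s * a⁻¹ ∈ a • S := by
    intro s hs
    exact Subgroup.smul_mem_pointwise_smul s (MulAut.conj a) (S : Subgroup (PSU 3 F q)) hs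
  set β : MulAut (PSU 3 F q) := (MulAut.conj a)⁻¹ * α * MulAut.conj a with hβ
  have hβa : ∀ y, β y = a⁻¹ * α (a * y * a⁻¹) * a := by
    intro y
    rw [hβ, MulAut.mul_apply, MulAut.mul_apply, MulAut.conj_apply, MulAut.conj_inv_apply]
  obtain ⟨t, ht, hty⟩ := hp.exists_conj β (by
    intro s hs
    rw [hβa, hα _ (hmem s hs)]
    have e : s⁻¹ * (a⁻¹ * (a * s * a⁻¹) * a) = 1 := by group
    rw [e]
    exact one_mem _)
  refine ⟨a * t * a⁻¹, hmem t ht, ?_⟩
  have h1 : β = MulAut.conj t := by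
    ext y; rw [hty, MulAut.conj_apply]
  have h2 : α = MulAut.conj a * β * (MulAut.conj a)⁻¹ := by rw [hβ]; group
  rw [h2, h1, map_mul, map_mul, map_inv]

/-- all involutions are conjugate -/
theorem exists_conj_inv [CharP F 2] (hF : Fintype.card F = q ^ 2) (hq : 2 < q) {s t : PSU 3 F q}
    (hs : orderOf s = 2) (ht : orderOf t = 2) : ∃ g, g * s * g⁻¹ = t := by
  obtain ⟨v, hv0, hv, rfl, -⟩ := exists_tau_comm hF hq hs hs (Commute.refl s)
  obtain ⟨w, hw0, hw, rfl, -⟩ := exists_tau_comm hF hq ht ht (Commute.refl t)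
  obtain ⟨g, -, hg⟩ := Cfsg.Agent.LieClassical.HermGen.exists_map_iso hF le_rfl le_rfl
    (Cfsg.Agent.LieClassical.HermGen.mem_coordSub_top v)
    (Cfsg.Agent.LieClassical.HermGen.mem_coordSub_top w) hv0 hw0 hv hw
  exact ⟨_, by rw [conj_tau hF g hv, hg]⟩

end Model

/-! ### The properties of the centraliser of an involution -/

/-- All involutions of `C` are central, `C` has a normal Sylow 2-subgroup, isomorphic to `S`, and no nontrivial
normal subgroup of odd order. -/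
structure CentProp (C S : Type*) [Group C] [Group S] : Prop where
  comm : ∀ a b : C, orderOf a = 2 → a * b = b * a
  syl : ∃ Q : Subgroup C, Q.Normal ∧ IsPGroup 2 Q ∧ Odd Q.index ∧ Nonempty (Q ≃* S)
  odd : ∀ N : Subgroup C, N.Normal → Odd (Nat.card N) → N = ⊥

theorem CentProp.congr {C D S : Type*} [Group C] [Group D] [Group S] (e : C ≃* D) (h : CentProp C S) :
    CentProp D S where
  comm a b ha := by
    have h1 := h.comm (e.symm a) (e.symm b) (by rw [← ha]; exact e.symm.orderOf_eq a)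
    rw [← map_mul, ← map_mul] at h1
    exact e.symm.injective h1
  syl := by
    obtain ⟨Q, h1, h2, h3, ⟨f⟩⟩ := h.syl
    refine ⟨Q.map e.toMonoidHom, h1.map _ e.surjective, h2.map _, ?_,
      ⟨(Q.equivMapOfInjective e.toMonoidHom e.injective).symm.trans f⟩⟩
    rwa [Subgroup.index_map_of_bijective (f := e.toMonoidHom) e.bijective]
  odd N hN hodd := by
    have h1 := h.odd (N.comap e.toMonoidHom) (hN.comap _) (by
      rw [show N.comap e.toMonoidHom = N.map e.symm.toMonoidHom from Subgroup.comap_equiv_eq_map_symm e N,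
        Subgroup.card_map_of_injective (f := e.symm.toMonoidHom) e.symm.injective]
      exact hodd)
    rw [← Subgroup.map_comap_eq_self_of_surjective (f := e.toMonoidHom) e.surjective N, h1, Subgroup.map_bot]

section Cent

variable {F : Type*} [Field F] [Fintype F] {q : ℕ} (hF : Fintype.card F = q ^ 2) (h32 : ¬ (3 = 3 ∧ q = 2))

/-- the stabiliser of `t` in the group of linear automorphisms -/
noncomputable def CC (t : PSU 3 F q) : Subgroup (MulAut (PSU 3 F q)) :=
  (rho hF le_rfl h32).ker ⊓ MulAction.stabilizer (MulAut (PSU 3 F q)) t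

variable {hF h32}

theorem mem_CC {t : PSU 3 F q} {α : MulAut (PSU 3 F q)} :
    α ∈ CC hF h32 t ↔ rho hF le_rfl h32 α = 1 ∧ α t = t := Iff.rfl

theorem exists_toAut {α : MulAut (PSU 3 F q)} (hα : rho hF le_rfl h32 α = 1) :
    ∃ A : GU 3 F q, α = toAut A 1 := by
  obtain ⟨A, hA⟩ := rho_spec hF le_rfl h32 α
  rw [hα] at hA
  exact ⟨A, hA⟩

/-- linear automorphisms fixing `t` fix the involutions commuting with `t` -/
theorem apply_eq [CharP F 2] (hq : 2 < q) {s t : PSU 3 F q} (hs : orderOf s = 2) (ht : orderOf t = 2)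
    (hst : Commute s t) {α : MulAut (PSU 3 F q)} (hα : α ∈ CC hF h32 t) : α s = s := by
  obtain ⟨h1, h2⟩ := mem_CC.1 hα
  obtain ⟨A, rfl⟩ := exists_toAut h1
  exact apply_eq_of_commute hF hq A hs ht hst h2

/-- an automorphism fixing an involution of a Sylow 2-subgroup preserves it -/
theorem apply_mem [CharP F 2] (hF : Fintype.card F = q ^ 2) (hq : 2 < q) (P : Sylow 2 (PSU 3 F q)) {t : PSU 3 F q} (ht : t ∈ P)
    (ht1 : t ≠ 1) {α : MulAut (PSU 3 F q)} (hα : α t = t) {x : PSU 3 F q} (hx : x ∈ P) : α x ∈ P := by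
  have h1 : α • P = P := by
    apply sylow_ti hF hq _ _ ht1 _ ht
    have h2 : α • t ∈ α • (P : Subgroup (PSU 3 F q)) := Subgroup.smul_mem_pointwise_smul t α _ ht
    rw [MulAut.smul_def, hα] at h2
    exact h2
  have h2 : α • x ∈ α • (P : Subgroup (PSU 3 F q)) := Subgroup.smul_mem_pointwise_smul x α _ hx
  rw [← h1]
  exact h2

/-- the 2-elements of `CC t` -/
theorem exists_of_two_element [CharP F 2] (hq : 2 < q) (P : Sylow 2 (PSU 3 F q)) {t : PSU 3 F q}
    (ht : t ∈ P) (ht1 : t ≠ 1) {α : MulAut (PSU 3 F q)} (hα : α ∈ CC hF h32 t) {k : ℕ}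
    (hk : α ^ 2 ^ k = 1) : ∃ s ∈ P, α = MulAut.conj s := by
  have : Fact (Nat.Prime 2) := ⟨Nat.prime_two⟩
  have hfin := finite_PSU hF
  obtain ⟨n, hn, hn'⟩ := exists_eq_two_pow hF hq
  have h2 : Even q := by rw [hn']; exact (Nat.even_pow.mpr ⟨even_two, by omega⟩)
  obtain ⟨h3, h4⟩ := mem_CC.1 hα
  obtain ⟨x, hx⟩ := (Cfsg.Agent.KFacts.OutCyc.PSU.exists_hom hF le_rfl h32 h2 (P := Subgroup.zpowers α) (by
    rintro ⟨β, m, rfl⟩
    refine ⟨k, ?_⟩
    apply Subtype.ext
    change (α ^ m) ^ 2 ^ k = 1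
    rw [← zpow_natCast, ← zpow_mul, mul_comm, zpow_mul, zpow_natCast, hk, one_zpow]) α
    (Subgroup.mem_zpowers α)).1 h3
  refine ⟨x, ?_, hx⟩
  have hxk : x ^ 2 ^ k = 1 := by
    apply conj_injective hF hq
    rw [map_pow, ← hx, hk, map_one]
  have hxn : x ∈ Subgroup.normalizer (P : Set (PSU 3 F q)) := by
    rw [← Sylow.smul_eq_iff_mem_normalizer]
    apply sylow_ti hF hq _ _ ht1 _ ht
    have h5 : MulAut.conj x • t ∈ MulAut.conj x • (P : Subgroup (PSU 3 F q)) :=
      Subgroup.smul_mem_pointwise_smul t (MulAut.conj x) _ ht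
    rw [← hx, MulAut.smul_def, h4, hx] at h5
    exact h5
  have hz : IsPGroup 2 (Subgroup.zpowers x) := by
    rintro ⟨y, m, rfl⟩
    refine ⟨k, ?_⟩
    apply Subtype.ext
    change (x ^ m) ^ 2 ^ k = 1
    rw [← zpow_natCast, ← zpow_mul, mul_comm, zpow_mul, zpow_natCast, hxk, one_zpow]
  have h6 : x ∈ Subgroup.zpowers x ⊓ Subgroup.normalizer (P : Set (PSU 3 F q)) :=
    ⟨Subgroup.mem_zpowers x, hxn⟩
  rw [hz.inf_normalizer_sylow P] at h6
  exact h6.2

omit [Fintype F] in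
theorem conj_apply_eq (α : MulAut (PSU 3 F q)) (s : PSU 3 F q) :
    α * MulAut.conj s * α⁻¹ = MulAut.conj (α s) := by
  ext y
  rw [MulAut.mul_apply, MulAut.mul_apply, MulAut.conj_apply, MulAut.conj_apply, map_mul, map_mul, map_inv,
    MulAut.apply_inv_self]

theorem map_conj_le [CharP F 2] (hq : 2 < q) (P : Sylow 2 (PSU 3 F q)) {t : PSU 3 F q}
    (ht : t ∈ P) (ht2 : orderOf t = 2) :
    (P : Subgroup (PSU 3 F q)).map MulAut.conj ≤ CC hF h32 t := by
  rintro _ ⟨s, hs, rfl⟩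
  refine mem_CC.2 ⟨rho_conj hF le_rfl h32 s, ?_⟩
  rw [MulAut.conj_apply, ← sylow_center hF hq P ht ht2 s hs, mul_inv_cancel_right]

theorem finite_MulAut (hF : Fintype.card F = q ^ 2) : Finite (MulAut (PSU 3 F q)) := by
  have hfin := finite_PSU hF
  exact Finite.of_injective (fun α : MulAut (PSU 3 F q) => (α : PSU 3 F q → PSU 3 F q))
    (fun a b h => MulEquiv.ext fun x => congrFun h x)

/-- **The centraliser of an involution.** -/
theorem centProp_CC [CharP F 2] (hq : 2 < q) (P : Sylow 2 (PSU 3 F q)) {t : PSU 3 F q}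
    (ht : t ∈ P) (ht2 : orderOf t = 2) : CentProp ↥(CC hF h32 t) ↥(P : Subgroup (PSU 3 F q)) := by
  have : Fact (Nat.Prime 2) := ⟨Nat.prime_two⟩
  have hfin := finite_PSU hF
  have hfinM := finite_MulAut hF
  have ht1 : t ≠ 1 := by rintro rfl; rw [orderOf_one] at ht2; omega
  have hle := map_conj_le (hF := hF) (h32 := h32) hq P ht ht2
  set Q := ((P : Subgroup (PSU 3 F q)).map MulAut.conj).subgroupOf (CC hF h32 t) with hQ
  have hmemQ : ∀ (α : CC hF h32 t) (k : ℕ), α ^ 2 ^ k = 1 → α ∈ Q := by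
    intro α k hk
    obtain ⟨s, hs, hα⟩ := exists_of_two_element hq P ht ht1 α.2 (k := k) (congrArg Subtype.val hk)
    exact Subgroup.mem_subgroupOf.2 ⟨s, hs, hα.symm⟩
  have hQn : Q.Normal := by
    constructor
    rintro a ha b
    obtain ⟨s, hs, hsa⟩ := Subgroup.mem_subgroupOf.1 ha
    refine Subgroup.mem_subgroupOf.2 ⟨(b : MulAut (PSU 3 F q)) s, ?_, ?_⟩
    · exact apply_mem hF hq P ht ht1 (mem_CC.1 b.2).2 hs
    · rw [← conj_apply_eq, hsa]; rfl
  have hQ2 : IsPGroup 2 Q := (P.isPGroup'.map _).comap_of_injective _ (CC hF h32 t).subtype_injective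
  have hQi : Odd Q.index := by
    obtain ⟨R, hR⟩ := hQ2.exists_le_sylow
    have h1 : (R : Subgroup (CC hF h32 t)) = Q := by
      apply le_antisymm _ hR
      intro α hα
      obtain ⟨k, hk⟩ := R.isPGroup' ⟨α, hα⟩
      exact hmemQ α k (congrArg Subtype.val hk)
    rw [← h1]
    have h2 := R.not_dvd_index
    rw [← Nat.not_even_iff_odd, even_iff_two_dvd]
    exact h2
  refine ⟨?_, ⟨Q, hQn, hQ2, hQi, ?_⟩, ?_⟩
  · intro a b ha
    have ha2 : (a : MulAut (PSU 3 F q)) ^ 2 ^ 1 = 1 := by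
      have := pow_orderOf_eq_one a
      rw [ha] at this
      exact congrArg Subtype.val this
    obtain ⟨s, hs, hsa⟩ := exists_of_two_element hq P ht ht1 a.2 ha2
    have hs2 : orderOf s = 2 := by
      rw [← orderOf_injective _ (conj_injective hF hq) s, ← hsa, Subgroup.orderOf_coe, ha]
    have hst : Commute s t := (sylow_center hF hq P ht ht2 s hs).symm
    have hb := apply_eq hq hs2 ht2 hst b.2
    have h1 := conj_apply_eq (b : MulAut (PSU 3 F q)) s
    rw [hb, ← hsa] at h1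
    apply Subtype.ext
    exact (mul_inv_eq_iff_eq_mul.1 h1).symm
  · exact ⟨(Subgroup.subgroupOfEquivOfLe hle).trans
      ((P : Subgroup (PSU 3 F q)).equivMapOfInjective _ (conj_injective hF hq)).symm⟩
  · intro N hN hodd
    have hdis : Disjoint N Q := by
      rw [Subgroup.disjoint_def]
      intro x hx hxQ
      obtain ⟨k, hk⟩ := hQ2 ⟨x, hxQ⟩
      have hk' : x ^ 2 ^ k = 1 := congrArg Subtype.val hk
      have h1 : orderOf x ∣ 2 ^ k := orderOf_dvd_of_pow_eq_one hk'
      have h2 : orderOf x ∣ Nat.card N := by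
        have := orderOf_dvd_natCard (⟨x, hx⟩ : N)
        rwa [Subgroup.orderOf_mk] at this
      have h3 : Nat.Coprime (2 ^ k) (Nat.card N) := Nat.Coprime.pow_left k (Nat.coprime_two_left.mpr hodd)
      rw [← orderOf_eq_one_iff]
      exact Nat.Coprime.eq_one_of_dvd (h3.coprime_dvd_left h1) h2
    rw [eq_bot_iff]
    intro α hα
    have hcomm : ∀ x ∈ P, (α : MulAut (PSU 3 F q)) x = x := by
      intro x hx
      have hxQ : (⟨MulAut.conj x, hle ⟨x, hx, rfl⟩⟩ : CC hF h32 t) ∈ Q :=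
        Subgroup.mem_subgroupOf.2 ⟨x, hx, rfl⟩
      have h1 := Subgroup.commute_of_normal_of_disjoint N Q hN hQn hdis α _ hα hxQ
      have h2 := congrArg Subtype.val h1.eq
      apply conj_injective hF hq
      rw [← conj_apply_eq]
      exact mul_inv_eq_iff_eq_mul.2 h2
    obtain ⟨s, hs, hα'⟩ := exists_conj_of_fix hF hq P α hcomm
    have h4 : α ∈ Q := Subgroup.mem_subgroupOf.2 ⟨s, hs, hα'.symm⟩
    exact Subgroup.disjoint_def.1 hdis hα h4

end Cent

/-! ### `PGU(3, q)` as a group of automorphisms of `PSU(3, q)` -/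

section Embed

variable {F : Type*} [Field F] {q : ℕ}

/-- `GU(3, q) → Aut PSU(3, q)` -/
def fG : GU 3 F q →* MulAut (PSU 3 F q) where
  toFun A := toAut A 1
  map_one' := by
    rw [Cfsg.Agent.KFacts.OutCyc.PSU.toAut_eq_conj (A := (1 : GU 3 F q)) (g := 1) rfl, map_one, map_one]
  map_mul' A B := by
    have hm : Cfsg.Agent.KFacts.OutCyc.PSU.gmap (1 : F ≃+* F) B = B := by
      apply Cfsg.Agent.ClassicalGeometry.PSUAutCount.gm_inj
      rw [Cfsg.Agent.KFacts.OutCyc.PSU.gm_gmap]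
      ext i j
      rfl
    rw [toAut_mul, hm, mul_one]

theorem fG_apply (A : GU 3 F q) : fG A = toAut A 1 := rfl

variable [Fintype F] [CharP F 2]

theorem fG_eq_one_iff (hF : Fintype.card F = q ^ 2) (hq : 2 < q) (A : GU 3 F q) :
    fG A = 1 ↔ A ∈ Subgroup.center (GU 3 F q) := by
  have h32 : ¬ (3 = 3 ∧ q = 2) := by omega
  constructor
  · intro h
    rw [← map_one (fG : GU 3 F q →* MulAut (PSU 3 F q)), fG_apply, fG_apply] at h
    obtain ⟨-, c, -, hc⟩ := eq_of_toAut_eq hF le_rfl h.symm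
    rw [Cfsg.Agent.ClassicalGeometry.PSUAutCount.gm_one] at hc
    rw [Subgroup.mem_center_iff]
    intro B
    apply Cfsg.Agent.ClassicalGeometry.PSUAutCount.gm_inj
    rw [Cfsg.Agent.ClassicalGeometry.PSUAutCount.gm_mul, Cfsg.Agent.ClassicalGeometry.PSUAutCount.gm_mul, hc,
      Matrix.mul_smul, Matrix.smul_mul, Matrix.one_mul, Matrix.mul_one]
  · intro h
    ext s
    obtain ⟨B, hB⟩ := exists_toAut (hF := hF) (h32 := h32) (rho_conj hF le_rfl h32 s)
    have h1 := Subgroup.mem_center_iff.1 h B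
    have h2 := congrArg (fG : GU 3 F q →* MulAut (PSU 3 F q)) h1
    rw [map_mul, map_mul, fG_apply B, ← hB] at h2
    have h3 := conj_apply_eq (fG A) s
    rw [← h2, mul_inv_cancel_right] at h3
    exact (conj_injective hF hq h3).symm

/-- `PGU(3, q) → Aut PSU(3, q)` -/
noncomputable def jU (hF : Fintype.card F = q ^ 2) (hq : 2 < q) :
    (GU 3 F q ⧸ Subgroup.center (GU 3 F q)) →* MulAut (PSU 3 F q) :=
  QuotientGroup.lift _ fG (fun A hA => (fG_eq_one_iff hF hq A).2 hA)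

theorem jU_injective (hF : Fintype.card F = q ^ 2) (hq : 2 < q) : Function.Injective (jU hF hq) := by
  rw [injective_iff_map_eq_one]
  intro x hx
  obtain ⟨A, rfl⟩ := QuotientGroup.mk_surjective x
  exact (QuotientGroup.eq_one_iff A).2 ((fG_eq_one_iff hF hq A).1 hx)

theorem mem_range_jU (hF : Fintype.card F = q ^ 2) (hq : 2 < q) (h32 : ¬ (3 = 3 ∧ q = 2))
    (α : MulAut (PSU 3 F q)) : α ∈ (jU hF hq).range ↔ rho hF le_rfl h32 α = 1 := by
  constructor
  · rintro ⟨x, rfl⟩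
    obtain ⟨A, rfl⟩ := QuotientGroup.mk_surjective x
    exact rho_toAut hF le_rfl h32 A 1
  · intro h
    obtain ⟨A, rfl⟩ := exists_toAut h
    exact ⟨QuotientGroup.mk A, rfl⟩

/-- an involution of `PGU(3, q)` is induced by an involution of `PSU(3, q)` -/
theorem exists_inv_jU (hF : Fintype.card F = q ^ 2) (hq : 2 < q)
    {y : GU 3 F q ⧸ Subgroup.center (GU 3 F q)} (hy : orderOf y = 2) :
    ∃ t : PSU 3 F q, orderOf t = 2 ∧ jU hF hq y = MulAut.conj t := by
  have h32 : ¬ (3 = 3 ∧ q = 2) := by omega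
  obtain ⟨n, hn, hn'⟩ := exists_eq_two_pow hF hq
  have h2 : Even q := by rw [hn']; exact (Nat.even_pow.mpr ⟨even_two, by omega⟩)
  have hα : orderOf (jU hF hq y) = 2 := by rw [orderOf_injective _ (jU_injective hF hq), hy]
  obtain ⟨t, ht⟩ := (Cfsg.Agent.KFacts.OutCyc.PSU.exists_hom hF le_rfl h32 h2
    (P := Subgroup.zpowers (jU hF hq y)) (IsPGroup.of_card (n := 1) (by rw [Nat.card_zpowers, hα, pow_one]))
    (jU hF hq y) (Subgroup.mem_zpowers _)).1 ((mem_range_jU hF hq h32 _).1 ⟨y, rfl⟩)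
  exact ⟨t, by rw [← orderOf_injective _ (conj_injective hF hq) t, ← ht, hα], ht⟩

/-- the centraliser of an involution of `PGU(3, q)` -/
theorem map_centralizer_eq (hF : Fintype.card F = q ^ 2) (hq : 2 < q) (h32 : ¬ (3 = 3 ∧ q = 2))
    {y : GU 3 F q ⧸ Subgroup.center (GU 3 F q)} {t : PSU 3 F q} (h : jU hF hq y = MulAut.conj t) :
    (Subgroup.centralizer ({y} : Set (GU 3 F q ⧸ Subgroup.center (GU 3 F q)))).map (jU hF hq) =
      CC hF h32 t := by
  have key : ∀ α : MulAut (PSU 3 F q), α t = t ↔ α * MulAut.conj t = MulAut.conj t * α := by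
    intro α
    rw [← mul_inv_eq_iff_eq_mul, conj_apply_eq]
    exact ⟨fun h => by rw [h], fun h => conj_injective hF hq h⟩
  ext α
  rw [mem_CC]
  constructor
  · rintro ⟨u, hu, rfl⟩
    have hu' := Subgroup.mem_centralizer_singleton_iff.1 hu
    refine ⟨(mem_range_jU hF hq h32 _).1 ⟨u, rfl⟩, ?_⟩
    rw [key, ← h, ← map_mul, ← map_mul]
    exact congrArg _ hu'
  · rintro ⟨h1, h2⟩
    obtain ⟨u, rfl⟩ := (mem_range_jU hF hq h32 α).2 h1
    refine ⟨u, Subgroup.mem_centralizer_singleton_iff.2 ?_, rfl⟩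
    rw [key, ← h, ← map_mul, ← map_mul] at h2
    exact jU_injective hF hq h2

/-- **The centraliser of an involution of `PGU(3, q)`.** -/
theorem centProp_PGU (hF : Fintype.card F = q ^ 2) (hq : 2 < q)
    {y : GU 3 F q ⧸ Subgroup.center (GU 3 F q)} (hy : orderOf y = 2) (P : Sylow 2 (PSU 3 F q)) :
    CentProp ↥(Subgroup.centralizer ({y} : Set (GU 3 F q ⧸ Subgroup.center (GU 3 F q))))
      ↥(P : Subgroup (PSU 3 F q)) := by
  have : Fact (Nat.Prime 2) := ⟨Nat.prime_two⟩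
  have h32 : ¬ (3 = 3 ∧ q = 2) := by omega
  have hfin := finite_PSU hF
  obtain ⟨t, ht, hyt⟩ := exists_inv_jU hF hq hy
  obtain ⟨R, hR⟩ := (IsPGroup.of_card (p := 2) (G := Subgroup.zpowers t) (n := 1)
    (by rw [Nat.card_zpowers, ht, pow_one])).exists_le_sylow
  have h1 := centProp_CC (hF := hF) (h32 := h32) hq R (hR (Subgroup.mem_zpowers t)) ht
  have h2 : CentProp ↥(Subgroup.centralizer ({y} : Set (GU 3 F q ⧸ Subgroup.center (GU 3 F q))))
      ↥(R : Subgroup (PSU 3 F q)) := by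
    refine CentProp.congr ?_ h1
    exact ((Subgroup.equivMapOfInjective _ _ (jU_injective hF hq)).trans
      (MulEquiv.subgroupCongr (map_centralizer_eq hF hq h32 hyt))).symm
  obtain ⟨Q, a, b, c, ⟨e⟩⟩ := h2.syl
  exact ⟨h2.comm, ⟨Q, a, b, c, ⟨e.trans (R.equiv P)⟩⟩, h2.odd⟩

end Embed

end Cfsg.Agent.H91.Pgu
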