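import Cfsg.Agent.H91.ZeroOne

/-!
# Three orbits on points: the number of points (helper91)
-/

set_option autoImplicit false
set_option linter.unusedSectionVars false

namespace Cfsg.Agent.H91.PointOrb

open Symp Cfsg.Agent.H91.Flag FlagFun ZeroB Module RankThree
open scoped LinearAlgebra.Projectivization

variable {F V : Type*} [Field F] [Fintype F] [AddCommGroup V] [Module F V] [FiniteDimensional F V] [Fintype V]
  {B : LinearMap.BilinForm F V}

theorem smul_mk' (g : Iso B) {v : V} (hv : v ≠ 0) (hv' : g.1 v ≠ 0) :
    g • Projectivization.mk F v hv = Projectivization.mk F (g.1 v) hv' := rfl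

theorem smul_eq_of (g : Iso B) {v w : V} (hv : v ≠ 0) (hw : w ≠ 0) (h : ∃ c : F, g.1 v = c • w) :
    g • Projectivization.mk F v hv = Projectivization.mk F w hw := by
  have hv' : g.1 v ≠ 0 := fun e => hv ((LinearEquiv.map_eq_zero_iff g.1).1 e)
  obtain ⟨c, hc⟩ := h
  have hc0 : c ≠ 0 := by rintro rfl; rw [zero_smul] at hc; exact hv' hc
  rw [smul_mk' g hv hv', Projectivization.mk_eq_mk_iff]
  exact ⟨Units.mk0 c hc0, hc.symm⟩

theorem exists_of_smul_eq (g : Iso B) {v w : V} (hv : v ≠ 0) (hw : w ≠ 0)
    (h : g • Projectivization.mk F v hv = Projectivization.mk F w hw) : ∃ c : F, g.1 v = c • w := by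
  have hv' : g.1 v ≠ 0 := fun e => hv ((LinearEquiv.map_eq_zero_iff g.1).1 e)
  rw [smul_mk' g hv hv', Projectivization.mk_eq_mk_iff] at h
  obtain ⟨c, hc⟩ := h
  exact ⟨c, hc.symm⟩

theorem pretransitive (hB : SForm B) : MulAction.IsPretransitive (Iso B) (ℙ F V) := by
  refine ⟨fun x y => ?_⟩
  induction x using Projectivization.ind with
  | h v hv =>
    induction y using Projectivization.ind with
    | h w hw =>
      obtain ⟨g, hg⟩ := exists_smul_nonzero hB hv hw
      exact ⟨g, smul_eq_of g hv hw ⟨1, by rw [one_smul]; exact hg⟩⟩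

/-- the isometry group has rank at most three on points -/
theorem rank_le (hB : SForm B) (p : ℙ F V) :
    Nat.card (MulAction.orbitRel.Quotient (MulAction.stabilizer (Iso B) p) (ℙ F V)) ≤ 3 := by
  classical
  have hp := p.rep_nonzero
  have hmk : Projectivization.mk F p.rep hp = p := p.mk_rep
  -- the class of a point
  let c : ℙ F V → Fin 3 := fun x => if x = p then 0 else if B p.rep x.rep = 0 then 1 else 2
  have key : ∀ x y : ℙ F V, c x = c y → x ∈ MulAction.orbit (MulAction.stabilizer (Iso B) p) y := by
    intro x y hxy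
    have hx0 := x.rep_nonzero
    have hy0 := y.rep_nonzero
    suffices h : ∃ g : Iso B, (∃ a : F, g.1 p.rep = a • p.rep) ∧ ∃ a : F, g.1 y.rep = a • x.rep by
      obtain ⟨g, h1, h2⟩ := h
      refine ⟨⟨g, ?_⟩, ?_⟩
      · rw [MulAction.mem_stabilizer_iff]
        have := smul_eq_of g hp hp h1
        rwa [hmk] at this
      · have := smul_eq_of g hy0 hx0 h2
        rwa [y.mk_rep, x.mk_rep] at this
    have hli : ∀ x : ℙ F V, x ≠ p → LinearIndependent F ![p.rep, x.rep] := by
      intro x hx
      rw [LinearIndependent.pair_iff' hp]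
      intro a e
      apply hx
      rw [← x.mk_rep, ← hmk, Projectivization.mk_eq_mk_iff]
      have ha : a ≠ 0 := by rintro rfl; rw [zero_smul] at e; exact x.rep_nonzero e.symm
      exact ⟨Units.mk0 a ha, e⟩
    by_cases h1 : x = p
    · have h2 : y = p := by
        by_contra h2
        have h3 : c x = 0 := if_pos h1
        have h4 : c y ≠ 0 := by
          change (if y = p then 0 else if B p.rep y.rep = 0 then 1 else 2) ≠ (0 : Fin 3)
          rw [if_neg h2]
          split_ifs <;> decide
        exact h4 (hxy ▸ h3)
      rw [h1, h2]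
      exact ⟨1, ⟨1, (one_smul _ _).symm⟩, ⟨1, (one_smul _ _).symm⟩⟩
    · have h2 : y ≠ p := by
        intro h2
        have h3 : c y = 0 := if_pos h2
        have h4 : c x ≠ 0 := by
          change (if x = p then 0 else if B p.rep x.rep = 0 then 1 else 2) ≠ (0 : Fin 3)
          rw [if_neg h1]
          split_ifs <;> decide
        exact h4 (hxy.trans h3)
      by_cases h3 : B p.rep x.rep = 0
      · have h4 : B p.rep y.rep = 0 := by
          by_contra h4
          have h5 : c x = 1 := by
            change (if x = p then 0 else if B p.rep x.rep = 0 then 1 else 2) = (1 : Fin 3)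
            rw [if_neg h1, if_pos h3]
          have h6 : c y = 2 := by
            change (if y = p then 0 else if B p.rep y.rep = 0 then 1 else 2) = (2 : Fin 3)
            rw [if_neg h2, if_neg h4]
          rw [h5, h6] at hxy
          exact absurd hxy (by decide)
        obtain ⟨g, hg, e⟩ := witt_family hB (hli y h2) (hli x h1) (by
          intro i j
          fin_cases i <;> fin_cases j
          · exact (hB.self _).trans (hB.self _).symm
          · exact h4.trans h3.symm
          · exact (hB.swap_zero h4).trans (hB.swap_zero h3).symm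
          · exact (hB.self _).trans (hB.self _).symm)
        exact ⟨⟨g, hg⟩, ⟨1, by rw [one_smul]; exact e 0⟩, ⟨1, by rw [one_smul]; exact e 1⟩⟩
      · have h4 : B p.rep y.rep ≠ 0 := by
          intro h4
          have h5 : c x = 2 := by
            change (if x = p then 0 else if B p.rep x.rep = 0 then 1 else 2) = (2 : Fin 3)
            rw [if_neg h1, if_neg h3]
          have h6 : c y = 1 := by
            change (if y = p then 0 else if B p.rep y.rep = 0 then 1 else 2) = (1 : Fin 3)
            rw [if_neg h2, if_pos h4]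
          rw [h5, h6] at hxy
          exact absurd hxy (by decide)
        set a := B p.rep x.rep with ha
        set b := B p.rep y.rep with hb
        have hli' : LinearIndependent F ![p.rep, (b * a⁻¹) • x.rep] := by
          rw [LinearIndependent.pair_iff]
          intro s t e
          have h5 := LinearIndependent.pair_iff.1 (hli x h1) s (t * (b * a⁻¹)) (by rw [← e, smul_smul])
          exact ⟨h5.1, (mul_eq_zero.1 h5.2).resolve_right (mul_ne_zero h4 (inv_ne_zero h3))⟩
        have h6 : B p.rep ((b * a⁻¹) • x.rep) = b := by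
          rw [map_smul, smul_eq_mul, ← ha, mul_assoc, inv_mul_cancel₀ h3, mul_one]
        obtain ⟨g, hg, e⟩ := witt_family hB (hli y h2) hli' (by
          intro i j
          fin_cases i <;> fin_cases j
          · exact (hB.self _).trans (hB.self _).symm
          · exact h6.symm
          · change B y.rep p.rep = B ((b * a⁻¹) • x.rep) p.rep
            rw [hB.swap, hB.swap _ p.rep, h6]
          · exact (hB.self _).trans (hB.self _).symm)
        exact ⟨⟨g, hg⟩, ⟨1, by rw [one_smul]; exact e 0⟩, ⟨b * a⁻¹, e 1⟩⟩
  let f : MulAction.orbitRel.Quotient (MulAction.stabilizer (Iso B) p) (ℙ F V) → Fin 3 := fun Q => c Q.out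
  have hf : Function.Injective f := by
    intro Q Q' e
    rw [← Quotient.out_eq Q, ← Quotient.out_eq Q']
    exact Quotient.sound (key _ _ e)
  have h1 := Nat.card_le_card_of_injective f hf
  rwa [Nat.card_eq_fintype_card (α := Fin 3), Fintype.card_fin] at h1

theorem three_le (K : Subgroup (Iso B)) {v : Fin 3 → V} (hv : ∀ i, v i ≠ 0)
    (h : ∀ i j, (∃ g ∈ K, ∃ c : F, g.1 (v i) = c • v j) → i = j) :
    3 ≤ Nat.card (MulAction.orbitRel.Quotient K (ℙ F V)) := by
  have : Finite (ℙ F V) := inferInstance
  have : Finite (MulAction.orbitRel.Quotient K (ℙ F V)) := Quotient.finite _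
  let f : Fin 3 → MulAction.orbitRel.Quotient K (ℙ F V) := fun i => Quotient.mk'' (Projectivization.mk F (v i) (hv i))
  have hf : Function.Injective f := by
    intro i j e
    have h1 : Projectivization.mk F (v i) (hv i) ∈ MulAction.orbit K (Projectivization.mk F (v j) (hv j)) :=
      Quotient.exact' e
    obtain ⟨⟨g, hg⟩, h2⟩ := h1
    have h3 : g • Projectivization.mk F (v j) (hv j) = Projectivization.mk F (v i) (hv i) := h2
    exact (h j i ⟨g, hg, exists_of_smul_eq g (hv j) (hv i) h3⟩).symm
  have h1 := Nat.card_le_card_of_injective f hf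
  rwa [Nat.card_eq_fintype_card (α := Fin 3), Fintype.card_fin] at h1

/-- **The number of points.** -/
theorem card_of_three (hB : SForm B) {k : ℕ} (hV : finrank F V = 2 * k) {X : Type*} [Fintype X]
    [MulAction (Iso B) X] [MulAction.IsPretransitive (Iso B) X] (x₀ : X)
    (h3 : Nat.card (MulAction.orbitRel.Quotient (MulAction.stabilizer (Iso B) x₀) X) ≤ 3)
    {v : Fin 3 → V} (hv : ∀ i, v i ≠ 0)
    (h : ∀ i j, (∃ g ∈ MulAction.stabilizer (Iso B) x₀, ∃ c : F, g.1 (v i) = c • v j) → i = j) :
    Fintype.card X * (Fintype.card F - 1) = Fintype.card F ^ (2 * k) - 1 := by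
  classical
  have := pretransitive (F := F) hB
  have : Finite (V ≃ₗ[F] V) := Finite.of_injective (fun g : V ≃ₗ[F] V => (g : V → V)) DFunLike.coe_injective
  have : Fintype (Iso B) := Fintype.ofFinite _
  have : Fintype (ℙ F V) := Fintype.ofFinite _
  have h1 := card_eq (G := Iso B) (X := X) (P := ℙ F V) x₀ (Projectivization.mk F (v 0) (hv 0)) h3 (rank_le hB _)
    (three_le _ hv h)
  rw [h1, ← Nat.card_eq_fintype_card (α := ℙ F V), ← Nat.card_eq_fintype_card (α := F), ← Projectivization.card,
    Module.natCard_eq_pow_finrank (K := F), hV]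

end Cfsg.Agent.H91.PointOrb
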