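import Cfsg.Agent.H91.FlagFun

/-!
# Two orbits on points: `(0, b)`-sets (helper91)

`AffP K O` : the invariant functions on flags are affine functions of the intersection numbers with `O`.

* `exists_zero_b` : `O` or its complement meets every totally isotropic line in `0` or `b` vectors;
* `trans3` : then `K` is transitive on the totally isotropic flags of dimensions `1, 2, 3` with first member in `O`.
-/

set_option autoImplicit false
set_option linter.unusedSectionVars false

namespace Cfsg.Agent.H91.ZeroB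

open Symp Cfsg.Agent.H91.Flag FlagFun Module

variable {F V : Type*} [Field F] [Fintype F] [AddCommGroup V] [Module F V] [FiniteDimensional F V] [Fintype V]
  {B : LinearMap.BilinForm F V}

/-- invariant functions are affine functions of the intersection numbers -/
def AffP (K : Subgroup (Iso B)) (O : Set V) : Prop :=
  ∀ (j : ℕ) (f : (Fin j → V) → ℝ), (∀ g ∈ K, ∀ u, f (g • u) = f u) →
    (∀ u u', Frame B u → Frame B u' → (∀ i, W F u i = W F u' i) → f u = f u') →
    ∃ (a : ℝ) (α : ℕ → ℝ), ∀ u, Frame B u →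
      f u = a + ∑ l ∈ Finset.range (j + 1), α l * (((W F u l : Set V) ∩ O).ncard : ℝ)

/-- the other orbit -/
def co (O : Set V) : Set V := {v | v ≠ 0 ∧ v ∉ O}

theorem Orb.co {K : Subgroup (Iso B)} {O : Set V} (h : Orb K O) : Orb K (co O) where
  inv g hg v := by
    have h0 : g • v = 0 ↔ v = 0 := LinearEquiv.map_eq_zero_iff g.1
    change g • v ≠ 0 ∧ g • v ∉ O ↔ v ≠ 0 ∧ v ∉ O
    rw [not_iff_not.2 (h.inv g hg v), Ne, h0]
  smul c hc v := by
    change c • v ≠ 0 ∧ c • v ∉ O ↔ v ≠ 0 ∧ v ∉ O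
    rw [not_iff_not.2 (h.smul c hc v), smul_ne_zero_iff]
    exact ⟨fun h => ⟨h.1.2, h.2⟩, fun h => ⟨⟨hc, h.1⟩, h.2⟩⟩
  zero h := h.1 rfl
  ne := h.ne'
  ne' := by
    obtain ⟨v, hv⟩ := h.ne
    have hv0 : v ≠ 0 := fun e => h.zero (e ▸ hv)
    exact ⟨v, hv0, fun h => h.2 hv⟩
  tr v hv v' hv' := h.tr' v hv.1 hv.2 v' hv'.1 hv'.2
  tr' v hv hvO v' hv' hvO' := by
    have h1 : v ∈ O := by
      by_contra hcon
      exact hvO ⟨hv, hcon⟩
    have h2 : v' ∈ O := by
      by_contra hcon
      exact hvO' ⟨hv', hcon⟩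
    exact h.tr v h1 v' h2

/-! ### lines -/

/-- the intersection number -/
noncomputable def nn (O : Set V) (L : Submodule F V) : ℕ := ((L : Set V) ∩ O).ncard

theorem nn_span_of_mem {K : Subgroup (Iso B)} {O : Set V} (h : Orb K O) {x : V} (hx : x ∈ O) :
    nn O (Submodule.span F {x}) = Fintype.card F - 1 := by
  classical
  have hx0 : x ≠ 0 := fun e => h.zero (e ▸ hx)
  have h1 : ((Submodule.span F {x} : Submodule F V) : Set V) ∩ O = Set.range fun c : Fˣ => (c : F) • x := by
    ext v
    constructor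
    · rintro ⟨h1, h2⟩
      obtain ⟨c, rfl⟩ := Submodule.mem_span_singleton.1 h1
      have hc : c ≠ 0 := by
        rintro rfl
        rw [zero_smul] at h2
        exact h.zero h2
      exact ⟨Units.mk0 c hc, rfl⟩
    · rintro ⟨c, rfl⟩
      exact ⟨Submodule.mem_span_singleton.2 ⟨c, rfl⟩, (h.smul _ c.ne_zero x).2 hx⟩
  unfold nn
  rw [h1, ← Set.image_univ, Set.ncard_image_of_injective _ (fun a b e => Units.ext (smul_left_injective F hx0 e)),
    Set.ncard_univ, Nat.card_eq_fintype_card, Fintype.card_units]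

theorem nn_span_of_notMem {K : Subgroup (Iso B)} {O : Set V} (h : Orb K O) {x : V} (hx : x ∉ O) :
    nn O (Submodule.span F {x}) = 0 := by
  unfold nn
  rw [Set.ncard_eq_zero]
  ext v
  constructor
  · rintro ⟨h1, h2⟩
    obtain ⟨c, rfl⟩ := Submodule.mem_span_singleton.1 h1
    have hc : c ≠ 0 := by
      rintro rfl
      rw [zero_smul] at h2
      exact h.zero h2
    exact absurd ((h.smul c hc x).1 h2) hx
  · exact fun h => h.elim

theorem exists_span_pair {L : Submodule F V} (hL : finrank F L = 2) {x : V} (hx : x ∈ L) (hx0 : x ≠ 0) :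
    ∃ y ∈ L, LinearIndependent F ![x, y] ∧ Submodule.span F {x, y} = L := by
  obtain ⟨y, hy, hyx⟩ : ∃ y ∈ L, y ∉ Submodule.span F {x} := by
    by_contra hcon
    push Not at hcon
    have h1 : L ≤ Submodule.span F {x} := hcon
    have h2 := Submodule.finrank_mono h1
    rw [hL, finrank_span_singleton hx0] at h2
    omega
  have hli : LinearIndependent F ![x, y] := by
    rw [LinearIndependent.pair_iff' hx0]
    intro a e
    exact hyx (Submodule.mem_span_singleton.2 ⟨a, e⟩)
  refine ⟨y, hy, hli, ?_⟩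
  refine Submodule.eq_of_le_of_finrank_eq (Submodule.span_le.2 ?_) ?_
  · rintro z (rfl | rfl)
    · exact hx
    · exact hy
  · rw [hL]
    have h1 := finrank_span_eq_card hli
    rw [Fintype.card_fin, Matrix.range_cons, Matrix.range_cons, Matrix.range_empty, Set.union_empty,
      Set.singleton_union] at h1
    exact h1

theorem frame_pair (hB : SForm B) {x y : V} (h : LinearIndependent F ![x, y]) (hxy : B x y = 0) :
    Frame B ![x, y] := by
  refine ⟨h, ?_⟩
  intro i l
  fin_cases i <;> fin_cases l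
  · exact hB.self x
  · exact hxy
  · exact hB.swap_zero hxy
  · exact hB.self y

theorem W_pair_one (x y : V) : W F ![x, y] 1 = Submodule.span F {x} := by
  unfold W
  congr 1
  ext v
  constructor
  · rintro ⟨l, hl, rfl⟩
    have : l = 0 := Fin.ext (by have : (l : ℕ) < 1 := hl; change (l : ℕ) = 0; omega)
    rw [this]; rfl
  · intro hv
    rw [Set.mem_singleton_iff.1 hv]
    exact ⟨0, Nat.zero_lt_one, rfl⟩

theorem W_pair_two (x y : V) : W F ![x, y] 2 = Submodule.span F {x, y} := by
  rw [W_of_le _ le_rfl, Matrix.range_cons, Matrix.range_cons, Matrix.range_empty, Set.union_empty, Set.singleton_union]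

theorem ncard_sub (L : Submodule F V) : (L : Set V).ncard = Fintype.card F ^ finrank F L := by
  rw [← Nat.card_coe_set_eq]
  exact (Module.natCard_eq_pow_finrank (K := F) (V := L)).trans (by rw [Nat.card_eq_fintype_card])

theorem nn_le {K : Subgroup (Iso B)} {O : Set V} (h : Orb K O) {L : Submodule F V} (hL : finrank F L = 2) :
    nn O L ≤ Fintype.card F ^ 2 - 1 := by
  have h1 : ((L : Set V) ∩ O) ⊆ (L : Set V) \ {0} := fun v hv => ⟨hv.1, fun e => h.zero (Set.mem_singleton_iff.1 e ▸ hv.2)⟩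
  have h2 := Set.ncard_le_ncard h1
  rw [Set.ncard_sdiff_singleton_of_mem (show (0 : V) ∈ (L : Set V) from L.zero_mem), ncard_sub L, hL] at h2
  exact h2

/-- the relation on pairs (point, line) -/
theorem star {K : Subgroup (Iso B)} {O : Set V} (hB : SForm B) (hO : Orb K O) (hA : AffP K O) :
    ∃ a a₁ a₂ : ℝ, ∀ x y, LinearIndependent F ![x, y] → B x y = 0 →
      (nn O (Submodule.span F {x}) : ℝ) * nn O (Submodule.span F {x, y}) =
        a + a₁ * nn O (Submodule.span F {x}) + a₂ * nn O (Submodule.span F {x, y}) := by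
  have hinv : ∀ g ∈ K, ∀ (u : Fin 2 → V) i, ((W F (g • u) i : Set V) ∩ O).ncard = ((W F u i : Set V) ∩ O).ncard := by
    intro g hg u i
    have h1 : ((W F (g • u) i : Set V) ∩ O) = g.1 '' ((W F u i : Set V) ∩ O) := by
      rw [W_smul]
      ext v
      constructor
      · rintro ⟨⟨w, hw, rfl⟩, h2⟩
        exact ⟨w, ⟨hw, (hO.inv g hg w).1 h2⟩, rfl⟩
      · rintro ⟨w, ⟨hw, h2⟩, rfl⟩
        exact ⟨⟨w, hw, rfl⟩, (hO.inv g hg w).2 h2⟩
    rw [h1, Set.ncard_image_of_injective _ g.1.injective]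
  obtain ⟨a, α, h⟩ := hA 2 (fun u => (((W F u 1 : Set V) ∩ O).ncard : ℝ) * ((W F u 2 : Set V) ∩ O).ncard)
    (fun g hg u => by simp only [hinv g hg u]) (fun u u' _ _ hW => by simp only [hW])
  refine ⟨a, α 1, α 2, fun x y hxy hB0 => ?_⟩
  have h1 := h _ (frame_pair hB hxy hB0)
  rw [Finset.sum_range_succ, Finset.sum_range_succ, Finset.sum_range_one, W_pair_one, W_pair_two, W_zero] at h1
  have h2 : ((⊥ : Submodule F V) : Set V) ∩ O = ∅ := by
    ext v
    constructor
    · rintro ⟨h3, h4⟩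
      rw [(Submodule.mem_bot F).1 h3] at h4
      exact absurd h4 hO.zero
    · exact fun h => h.elim
  rw [h2, Set.ncard_empty, Nat.cast_zero, mul_zero, zero_add] at h1
  unfold nn
  rw [h1]
  ring

/-- three mutually orthogonal vectors: `v ⊥ z ⊥ w` -/
theorem exists_perp (hV : 3 ≤ finrank F V) (v w : V) : ∃ z, z ≠ 0 ∧ B v z = 0 ∧ B w z = 0 := by
  let f : V →ₗ[F] F × F := (B v).prod (B w)
  have h1 := LinearMap.finrank_range_add_finrank_ker f
  have h2 : finrank F (LinearMap.range f) ≤ 2 := by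
    refine (Submodule.finrank_le _).trans ?_
    rw [finrank_prod, finrank_self]
  have h3 : 0 < finrank F (LinearMap.ker f) := by omega
  obtain ⟨⟨z, hz⟩, hz0⟩ := (Module.finrank_pos_iff_exists_ne_zero (R := F)).1 h3
  have h4 : (B v z, B w z) = ((0 : F), (0 : F)) := LinearMap.mem_ker.1 hz
  exact ⟨z, fun e => hz0 (Subtype.ext e), congrArg Prod.fst h4, congrArg Prod.snd h4⟩

/-- there is a mixed line -/
theorem exists_mixed {K : Subgroup (Iso B)} {O : Set V} (hB : SForm B) (hO : Orb K O) (hV : 3 ≤ finrank F V) :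
    ∃ x y, x ∈ O ∧ y ≠ 0 ∧ y ∉ O ∧ B x y = 0 := by
  obtain ⟨v, hv⟩ := hO.ne
  obtain ⟨w, hw0, hw⟩ := hO.ne'
  obtain ⟨z, hz0, h1, h2⟩ := exists_perp (B := B) hV v w
  by_cases hz : z ∈ O
  · exact ⟨z, w, hz, hw0, hw, hB.swap_zero h2⟩
  · exact ⟨v, z, hv, hz0, hz, h1⟩

theorem li_of_mem_of_notMem {K : Subgroup (Iso B)} {O : Set V} (hO : Orb K O) {x y : V} (hx : x ∈ O) (hy0 : y ≠ 0)
    (hy : y ∉ O) : LinearIndependent F ![x, y] := by
  have hx0 : x ≠ 0 := fun e => hO.zero (e ▸ hx)
  rw [LinearIndependent.pair_iff' hx0]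
  rintro a rfl
  have ha : a ≠ 0 := by rintro rfl; exact hy0 (zero_smul F x)
  exact hy ((hO.smul a ha x).2 hx)

variable (B) in
/-- `(0, b)`-sets -/
structure ZB (O : Set V) (b : ℕ) : Prop where
  pos : 0 < b
  lt : b < Fintype.card F ^ 2 - 1
  line : ∀ L : Submodule F V, finrank F L = 2 → TI B L → nn O L = 0 ∨ nn O L = b

theorem span_pair_swap (x y : V) : Submodule.span F {x, y} = Submodule.span F {y, x} := by rw [Set.pair_comm]

theorem li_swap {x y : V} (h : LinearIndependent F ![x, y]) : LinearIndependent F ![y, x] := by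
  rw [LinearIndependent.pair_iff] at h ⊢
  intro s t e
  have := h t s (by rw [add_comm]; exact e)
  exact ⟨this.2, this.1⟩

theorem nn_eq_of_subset {O : Set V} {L : Submodule F V} (hL : finrank F L = 2) (h : ∀ v ∈ L, v ≠ 0 → v ∈ O)
    (h0 : (0 : V) ∉ O) : nn O L = Fintype.card F ^ 2 - 1 := by
  have h1 : ((L : Set V) ∩ O) = (L : Set V) \ {0} := by
    ext v
    constructor
    · exact fun hv => ⟨hv.1, fun e => h0 (Set.mem_singleton_iff.1 e ▸ hv.2)⟩
    · exact fun hv => ⟨hv.1, h v hv.1 fun e => hv.2 (Set.mem_singleton_iff.2 e)⟩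
  unfold nn
  rw [h1, Set.ncard_sdiff_singleton_of_mem (show (0 : V) ∈ (L : Set V) from L.zero_mem), ncard_sub L, hL]

theorem nn_lt {O : Set V} {L : Submodule F V} (hL : finrank F L = 2) {y : V} (hy : y ∈ L) (hy0 : y ≠ 0) (hyO : y ∉ O)
    (h0 : (0 : V) ∉ O) : nn O L < Fintype.card F ^ 2 - 1 := by
  have h1 : ((L : Set V) ∩ O) ⊂ (L : Set V) \ {0} := by
    refine ⟨fun v hv => ⟨hv.1, fun e => h0 (Set.mem_singleton_iff.1 e ▸ hv.2)⟩, fun h => ?_⟩
    exact hyO (h ⟨hy, fun e => hy0 (Set.mem_singleton_iff.1 e)⟩).2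
  have h2 := Set.ncard_lt_ncard h1
  rw [Set.ncard_sdiff_singleton_of_mem (show (0 : V) ∈ (L : Set V) from L.zero_mem), ncard_sub L, hL] at h2
  exact h2

theorem nn_pos {O : Set V} {L : Submodule F V} {x : V} (hx : x ∈ L) (hxO : x ∈ O) : 0 < nn O L :=
  (Set.ncard_pos (Set.toFinite _)).2 ⟨x, hx, hxO⟩

theorem finrank_span_pair {x y : V} (h : LinearIndependent F ![x, y]) : finrank F (Submodule.span F {x, y}) = 2 := by
  have h1 := finrank_span_eq_card h
  rwa [Fintype.card_fin, Matrix.range_cons, Matrix.range_cons, Matrix.range_empty, Set.union_empty,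
    Set.singleton_union] at h1

theorem ti_span_pair (hB : SForm B) {x y : V} (h : B x y = 0) : TI B (Submodule.span F {x, y}) := by
  intro v hv w hw
  obtain ⟨a, b, rfl⟩ := Submodule.mem_span_pair.1 hv
  obtain ⟨c, d, rfl⟩ := Submodule.mem_span_pair.1 hw
  simp [hB.self, h, hB.swap_zero h]

/-- **`(0, b)`-sets.** -/
theorem exists_zero_b {K : Subgroup (Iso B)} {O : Set V} (hB : SForm B) (hO : Orb K O) (hA : AffP K O)
    (hV : 3 ≤ finrank F V) : ∃ b, ZB B O b ∨ ZB B (co O) b := by
  classical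
  obtain ⟨a, a₁, a₂, hst⟩ := star hB hO hA
  have hq1 : 1 < Fintype.card F := Fintype.one_lt_card
  have hq : ((Fintype.card F - 1 : ℕ) : ℝ) ≠ 0 := by
    have : Fintype.card F - 1 ≠ 0 := by omega
    exact_mod_cast this
  -- mixed lines
  have hmix : ∀ x y, x ∈ O → y ≠ 0 → y ∉ O → B x y = 0 →
      (nn O (Submodule.span F {x, y}) : ℝ) = a₁ ∧ a + a₂ * a₁ = 0 := by
    intro x y hx hy0 hy hxy
    have hli := li_of_mem_of_notMem hO hx hy0 hy
    have h1 := hst x y hli hxy
    have h2 := hst y x (li_swap hli) (hB.swap_zero hxy)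
    rw [nn_span_of_mem hO hx] at h1
    rw [nn_span_of_notMem hO hy, span_pair_swap] at h2
    rw [Nat.cast_zero, zero_mul, mul_zero, add_zero] at h2
    have h3 : (nn O (Submodule.span F {x, y}) : ℝ) = a₁ := by
      have h4 : ((Fintype.card F - 1 : ℕ) : ℝ) * (nn O (Submodule.span F {x, y}) - a₁) = 0 := by
        linear_combination h1 - h2
      have := (mul_eq_zero.1 h4).resolve_left hq
      linarith
    exact ⟨h3, by rw [h3] at h2; exact h2.symm⟩
  obtain ⟨x₁, y₁, hx₁, hy₁0, hy₁, hxy₁⟩ := exists_mixed hB hO hV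
  obtain ⟨hm1, hm2⟩ := hmix x₁ y₁ hx₁ hy₁0 hy₁ hxy₁
  have hli₁ := li_of_mem_of_notMem hO hx₁ hy₁0 hy₁
  set b := nn O (Submodule.span F {x₁, y₁}) with hb
  have hx₁L : x₁ ∈ Submodule.span F {x₁, y₁} := Submodule.subset_span (Or.inl rfl)
  have hy₁L : y₁ ∈ Submodule.span F {x₁, y₁} := Submodule.subset_span (Or.inr rfl)
  have hb0 : 0 < b := nn_pos hx₁L hx₁
  have hb1 : b < Fintype.card F ^ 2 - 1 := nn_lt (finrank_span_pair hli₁) hy₁L hy₁0 hy₁ hO.zero
  -- mixed lines have `b` vectors in `O`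
  have hmixL : ∀ L : Submodule F V, TI B L → ∀ x ∈ L, ∀ y ∈ L, finrank F L = 2 → x ∈ O → y ≠ 0 → y ∉ O →
      nn O L = b := by
    intro L hTI x hx y hy hL hxO hy0 hyO
    have h1 := (hmix x y hxO hy0 hyO (hTI x hx y hy)).1
    have h2 : Submodule.span F {x, y} = L := by
      refine Submodule.eq_of_le_of_finrank_eq (Submodule.span_le.2 ?_) ?_
      · rintro z (rfl | rfl)
        · exact hx
        · exact hy
      · rw [finrank_span_pair (li_of_mem_of_notMem hO hxO hy0 hyO), hL]
    rw [h2, ← hm1] at h1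
    exact_mod_cast h1
  by_cases hin : ∃ L : Submodule F V, finrank F L = 2 ∧ TI B L ∧ ∀ v ∈ L, v ≠ 0 → v ∈ O
  · -- lines in `O` : no lines in the complement
    obtain ⟨L', hL', hTI', hin⟩ := hin
    refine ⟨Fintype.card F ^ 2 - 1 - b, Or.inr ⟨by omega, by omega, fun L hL hTI => ?_⟩⟩
    by_cases hLO : ∃ x ∈ L, x ∈ O
    · obtain ⟨x, hx, hxO⟩ := hLO
      by_cases hLH : ∃ y ∈ L, y ≠ 0 ∧ y ∉ O
      · obtain ⟨y, hy, hy0, hyO⟩ := hLH
        right
        have h1 := hmixL L hTI x hx y hy hL hxO hy0 hyO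
        have h2 : nn O L + nn (co O) L = Fintype.card F ^ 2 - 1 := by
          have h3 := nn_eq_of_subset (O := {v : V | v ≠ 0}) hL (fun v _ hv => hv) (fun h => h rfl)
          rw [← h3]
          unfold nn
          rw [← Set.ncard_union_eq]
          · congr 1
            ext v
            constructor
            · rintro (⟨h4, h5⟩ | ⟨h4, h5⟩)
              · exact ⟨h4, fun e => hO.zero (e ▸ h5)⟩
              · exact ⟨h4, h5.1⟩
            · rintro ⟨h4, h5⟩
              by_cases h6 : v ∈ O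
              · exact Or.inl ⟨h4, h6⟩
              · exact Or.inr ⟨h4, h5, h6⟩
          · rw [Set.disjoint_left]
            rintro v ⟨_, h4⟩ ⟨_, h5⟩
            exact h5.2 h4
        omega
      · left
        push Not at hLH
        unfold nn
        rw [Set.ncard_eq_zero (Set.toFinite _)]
        ext v
        constructor
        · rintro ⟨h4, h5⟩
          exact absurd (hLH v h4 h5.1) h5.2
        · exact fun h => h.elim
    · -- a line in the complement: contradiction
      exfalso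
      push Not at hLO
      obtain ⟨⟨y, hy⟩, hy0⟩ := (Module.finrank_pos_iff_exists_ne_zero (R := F)).1
        (show 0 < finrank F L by omega)
      have hy0' : y ≠ 0 := fun e => hy0 (Subtype.ext e)
      obtain ⟨z, hz, hli, hspan⟩ := exists_span_pair hL hy hy0'
      have h1 := hst y z hli (hTI y hy z hz)
      rw [nn_span_of_notMem hO (hLO y hy), hspan] at h1
      have h2 : nn O L = 0 := by
        unfold nn
        rw [Set.ncard_eq_zero (Set.toFinite _)]
        ext v
        constructor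
        · rintro ⟨h4, h5⟩
          exact absurd h5 (hLO v h4)
        · exact fun h => h.elim
      rw [h2] at h1
      have ha : a = 0 := by push_cast at h1; linarith
      have ha2 : a₂ = 0 := by
        rw [ha, zero_add] at hm2
        rcases mul_eq_zero.1 hm2 with h | h
        · exact h
        · exfalso
          rw [← hm1] at h
          have : (b : ℝ) ≠ 0 := by exact_mod_cast hb0.ne'
          exact this h
      obtain ⟨⟨x, hx⟩, hx0⟩ := (Module.finrank_pos_iff_exists_ne_zero (R := F)).1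
        (show 0 < finrank F L' by omega)
      have hx0' : x ≠ 0 := fun e => hx0 (Subtype.ext e)
      obtain ⟨z, hz, hli, hspan⟩ := exists_span_pair hL' hx hx0'
      have h3 := hst x z hli (hTI' x hx z hz)
      rw [nn_span_of_mem hO (hin x hx hx0'), hspan, nn_eq_of_subset hL' hin hO.zero, ha, ha2, zero_mul, add_zero,
        zero_add, mul_comm] at h3
      have h4 := mul_right_cancel₀ hq h3
      rw [← hm1] at h4
      have h5 : Fintype.card F ^ 2 - 1 = b := by exact_mod_cast h4
      omega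
  · refine ⟨b, Or.inl ⟨hb0, hb1, fun L hL hTI => ?_⟩⟩
    push Not at hin
    obtain ⟨y, hy, hy0, hyO⟩ := hin L hL hTI
    by_cases hLO : ∃ x ∈ L, x ∈ O
    · obtain ⟨x, hx, hxO⟩ := hLO
      exact Or.inr (hmixL L hTI x hx y hy hL hxO hy0 hyO)
    · left
      push Not at hLO
      unfold nn
      rw [Set.ncard_eq_zero (Set.toFinite _)]
      ext v
      constructor
      · rintro ⟨h4, h5⟩
        exact absurd h5 (hLO v h4)
      · exact fun h => h.elim

end Cfsg.Agent.H91.ZeroB
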