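import Cfsg.Agent.H91.ZeroB

/-!
# `(0, 1)`-sets: no partial ovoids with two orbits (helper91)
-/

set_option autoImplicit false
set_option linter.unusedSectionVars false

namespace Cfsg.Agent.H91.ZeroB

open Symp Cfsg.Agent.H91.Flag FlagFun Module

variable {F V : Type*} [Field F] [Fintype F] [AddCommGroup V] [Module F V] [FiniteDimensional F V] [Fintype V]
  {B : LinearMap.BilinForm F V}

theorem finrank_perp (hB : SForm B) (C : Submodule F V) : finrank F (perp B C) + finrank F C = finrank F V := by
  -- the map `V → Dual C`, `v ↦ B v |_C`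
  let f : V →ₗ[F] Module.Dual F C := (Module.Dual.transpose (R := F) C.subtype).comp B
  have hker : LinearMap.ker f = perp B C := by
    ext v
    rw [LinearMap.mem_ker, mem_perp]
    constructor
    · intro h z hz
      exact congrArg (fun φ : Module.Dual F C => φ ⟨z, hz⟩) h
    · intro h
      ext z
      exact h z z.2
  have hr : LinearMap.range f = ⊤ := by
    rw [LinearMap.range_eq_top]
    intro φ
    obtain ⟨ψ, hψ⟩ := LinearMap.exists_extend (p := C) φ
    have hBs : Function.Surjective B := by
      have hinj : Function.Injective B := by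
        rw [injective_iff_map_eq_zero]
        intro v hv
        exact hB.eq_zero fun y => by rw [hv]; rfl
      have hdim : finrank F V = finrank F (Module.Dual F V) := (Subspace.dual_finrank_eq).symm
      exact (LinearMap.injective_iff_surjective_of_finrank_eq_finrank hdim).1 hinj
    obtain ⟨v, hv⟩ := hBs ψ
    refine ⟨v, ?_⟩
    ext z
    change B v z = φ z
    rw [hv, ← hψ]
    rfl
  have h1 := LinearMap.finrank_range_add_finrank_ker f
  rw [hker, hr, finrank_top, Subspace.dual_finrank_eq] at h1
  omega

/-- `(0, 1)`-sets -/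
theorem not_zero_one {K : Subgroup (Iso B)} {O : Set V} (hB : SForm B) (hO : Orb K O) {k : ℕ} (hk : 3 ≤ k)
    (hV : finrank F V = 2 * k) (hZ : ZB B O (Fintype.card F - 1)) : False := by
  classical
  have hnt : Nontrivial V := by
    have : 0 < finrank F V := by omega
    exact (Module.finrank_pos_iff (R := F)).1 this
  obtain ⟨lam, hlam⟩ := exists_lam' hB hO
  obtain ⟨p, hp⟩ := hO.ne
  have hp0 : p ≠ 0 := fun e => hO.zero (e ▸ hp)
  set q : ℕ := Fintype.card F with hq
  have hq1 : 1 < q := Fintype.one_lt_card
  have hcardV : Fintype.card V = q ^ (2 * k) := by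
    rw [← Nat.card_eq_fintype_card, Module.natCard_eq_pow_finrank (K := F), hV, Nat.card_eq_fintype_card]
  -- points of `O` orthogonal to `p ∈ O` are multiples of `p`
  have hperp : ∀ p ∈ O, ∀ v ∈ O, B v p = 0 → v ∈ Submodule.span F {p} := by
    intro p hp v hv h
    have hp0 : p ≠ 0 := fun e => hO.zero (e ▸ hp)
    by_contra hcon
    have hli : LinearIndependent F ![p, v] := by
      rw [LinearIndependent.pair_iff' hp0]
      intro a e
      exact hcon (Submodule.mem_span_singleton.2 ⟨a, e⟩)
    have h1 : nn O (Submodule.span F {p, v}) = q - 1 := by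
      rcases hZ.line _ (finrank_span_pair hli) (ti_span_pair hB (hB.swap_zero h)) with h2 | h2
      · exfalso
        have := nn_pos (L := Submodule.span F {p, v}) (Submodule.subset_span (Or.inl rfl)) hp
        omega
      · exact h2
    have h2 : nn O (Submodule.span F {p}) = q - 1 := nn_span_of_mem hO hp
    have h3 : ((Submodule.span F {p} : Submodule F V) : Set V) ∩ O =
        ((Submodule.span F {p, v} : Submodule F V) : Set V) ∩ O := by
      refine Set.eq_of_subset_of_ncard_le (Set.inter_subset_inter_left _ ?_) ?_ (Set.toFinite _)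
      · exact Submodule.span_mono (Set.singleton_subset_iff.2 (Or.inl rfl))
      · exact (h1.trans h2.symm).le
    have h4 : v ∈ ((Submodule.span F {p, v} : Submodule F V) : Set V) ∩ O :=
      ⟨Submodule.subset_span (Or.inr rfl), hv⟩
    rw [← h3] at h4
    exact hcon h4.1
  have hnperp : nn O (perp B (Submodule.span F {p})) = q - 1 := by
    rw [← nn_span_of_mem hO hp]
    unfold nn
    congr 1
    ext v
    constructor
    · rintro ⟨h1, h2⟩
      exact ⟨hperp p hp v h2 (h1 p (Submodule.mem_span_singleton_self p)), h2⟩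
    · rintro ⟨h1, h2⟩
      refine ⟨?_, h2⟩
      intro z hz
      obtain ⟨a, rfl⟩ := Submodule.mem_span_singleton.1 h1
      obtain ⟨b, rfl⟩ := Submodule.mem_span_singleton.1 hz
      simp [hB.self]
  set x : ℝ := (O.ncard : ℝ) / ((Fintype.card V : ℝ) - 1) with hx
  set s : ℝ := (q : ℝ) ^ (k - 1) with hs
  have hqR : (1 : ℝ) < q := by exact_mod_cast hq1
  have hsm : ∀ C : Submodule F V, sm (nf O) C = (nn O C : ℝ) - x * ((q : ℝ) ^ finrank F C - 1) := by
    intro C
    rw [sm_nf, Module.natCard_eq_pow_finrank (K := F), Nat.card_eq_fintype_card]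
    push_cast
    rfl
  have hcQ : ((Fintype.card V : ℝ) - 1) = (q : ℝ) ^ 2 * s ^ 2 - 1 := by
    rw [hcardV, hs]
    push_cast
    rw [← pow_mul, ← pow_add]
    congr 2
    omega
  have hxpos : 0 < x := by
    rw [hx]
    refine div_pos ?_ ?_
    · have : 0 < O.ncard := (Set.ncard_pos (Set.toFinite _)).2 hO.ne
      exact_mod_cast this
    · have : 1 < Fintype.card V := Fintype.one_lt_card
      have : (1 : ℝ) < Fintype.card V := by exact_mod_cast this
      linarith
  have hq1' : ((q - 1 : ℕ) : ℝ) = (q : ℝ) - 1 := by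
    rw [Nat.cast_sub hq1.le, Nat.cast_one]
  -- equation 1 : the point `p`
  have e1 : ((q : ℝ) - 1) - x * ((q : ℝ) * s ^ 2 - 1) = lam * (1 - x) := by
    have h1 := hlam p
    rw [hsm, hnperp, hq1'] at h1
    have h2 := finrank_perp hB (Submodule.span F {p})
    rw [finrank_span_singleton hp0, hV] at h2
    have h3 : finrank F (perp B (Submodule.span F {p})) = 2 * (k - 1) + 1 := by omega
    rw [h3] at h1
    have h4 : (q : ℝ) ^ (2 * (k - 1) + 1) = (q : ℝ) * s ^ 2 := by
      rw [hs, ← pow_mul, pow_succ, mul_comm 2]; ring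
    rw [h4] at h1
    rw [h1]
    unfold nf
    rw [if_pos hp, if_neg hp0]
  -- equation 2 : a totally isotropic line through `p`
  obtain ⟨v, hv, hvp⟩ : ∃ v, v ∉ Submodule.span F {p} ∧ B p v = 0 := by
    have h2 := finrank_perp hB (Submodule.span F {p})
    rw [finrank_span_singleton hp0, hV] at h2
    by_contra hcon
    push Not at hcon
    have h3 : perp B (Submodule.span F {p}) ≤ Submodule.span F {p} := by
      intro v hv
      by_contra h
      exact hcon v h (hB.swap_zero (hv p (Submodule.mem_span_singleton_self p)))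
    have h4 := Submodule.finrank_mono h3
    rw [finrank_span_singleton hp0] at h4
    omega
  have hli : LinearIndependent F ![p, v] := by
    rw [LinearIndependent.pair_iff' hp0]
    intro a e
    exact hv (Submodule.mem_span_singleton.2 ⟨a, e⟩)
  have hqq : ∀ C : Submodule F V, finrank F C = 2 →
      (q : ℝ) * ((q : ℝ) - 1) * sm (nf O) (perp B C) = lam * sm (nf O) C := by
    intro C hC
    have h1 := perp_sum (sum_nf O) hlam C
    rw [Module.natCard_eq_pow_finrank (K := F), hC, Nat.card_eq_fintype_card] at h1
    rw [← h1]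
    push_cast
    have : (q : ℝ) ≠ 0 := by positivity
    rw [← hq]
    field_simp
  have hfr : ∀ C : Submodule F V, finrank F C = 2 → (q : ℝ) ^ finrank F (perp B C) = s ^ 2 := by
    intro C hC
    have h2 := finrank_perp hB C
    rw [hC, hV] at h2
    have h3 : finrank F (perp B C) = (k - 1) * 2 := by omega
    rw [h3, hs, ← pow_mul]
  have e2 : (q : ℝ) * (q - 1) * ((q - 1) - x * (s ^ 2 - 1)) = lam * ((q - 1) - x * ((q : ℝ) ^ 2 - 1)) := by
    have hL := finrank_span_pair hli
    have h1 := hqq _ hL
    rw [hsm, hsm, hfr _ hL, hL] at h1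
    have h3 : nn O (Submodule.span F {p, v}) = q - 1 := by
      rcases hZ.line _ hL (ti_span_pair hB hvp) with h2 | h2
      · exfalso
        have := nn_pos (L := Submodule.span F {p, v}) (Submodule.subset_span (Or.inl rfl)) hp
        omega
      · exact h2
    have h4 : nn O (perp B (Submodule.span F {p, v})) = q - 1 := by
      apply le_antisymm
      · rw [← hnperp]
        exact Set.ncard_le_ncard (Set.inter_subset_inter_left _
          (perp_anti (Submodule.span_mono (Set.singleton_subset_iff.2 (Or.inl rfl)))))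
      · rw [← nn_span_of_mem hO hp]
        refine Set.ncard_le_ncard (Set.inter_subset_inter_left _ ?_)
        have h5 : Submodule.span F {p} ≤ Submodule.span F {p, v} :=
          Submodule.span_mono (Set.singleton_subset_iff.2 (Or.inl rfl))
        intro w hw z hz
        exact ti_span_pair hB hvp w (h5 hw) z hz
    rw [h3, h4, hq1'] at h1
    exact h1
  -- solve
  have hs0 : (q : ℝ) ^ 2 ≤ s := by
    rw [hs]
    exact pow_le_pow_right₀ hqR.le (by omega)
  have hx1 : ((q : ℝ) - 1 + x) ^ 2 = (q * s * x) ^ 2 := by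
    have h1 : ((q : ℝ) - 1) * (((q : ℝ) - 1 + x) ^ 2 - (q * s * x) ^ 2) = 0 := by
      linear_combination (1 - x) * e2 - ((q - 1) - x * ((q : ℝ) ^ 2 - 1)) * e1
    have h2 := (mul_eq_zero.1 h1).resolve_left (by linarith)
    linarith
  have hspos : 0 < s := by nlinarith
  have hx2 : (q : ℝ) - 1 + x = q * s * x := by
    rcases sq_eq_sq_iff_eq_or_eq_neg.1 hx1 with h | h
    · exact h
    · exfalso
      have : 0 < (q : ℝ) * s * x := by positivity
      linarith
  have hlam' : lam = -(((q : ℝ) - 1) * s) := by
    have hx3 : x < 1 := by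
      by_contra hcon
      push Not at hcon
      have h1 : ((q : ℝ) - 1) * 1 ≤ (q - 1) * x := mul_le_mul_of_nonneg_left hcon (by linarith)
      have h2 : (q : ℝ) * x * 1 < q * x * s := mul_lt_mul_of_pos_left (by nlinarith) (by positivity)
      nlinarith
    have h1 : (lam + ((q : ℝ) - 1) * s) * (1 - x) = 0 := by
      linear_combination -e1 + (1 + s) * hx2
    have := (mul_eq_zero.1 h1).resolve_right (by linarith)
    linarith
  -- a second point of `O`, not orthogonal to `p`
  obtain ⟨p', hp', hpp'⟩ : ∃ p' ∈ O, B p' p ≠ 0 := by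
    by_contra hcon
    push Not at hcon
    have h1 : O = ((Submodule.span F {p} : Submodule F V) : Set V) ∩ O := by
      ext v
      exact ⟨fun h => ⟨hperp p hp v h (hcon v h), h⟩, fun h => h.2⟩
    have h2 : O.ncard = q - 1 := by
      rw [h1]
      exact nn_span_of_mem hO hp
    have h3 : x * ((q : ℝ) ^ 2 * s ^ 2 - 1) = (q : ℝ) - 1 := by
      have hqs : 1 < (q : ℝ) * s := by nlinarith
      have hqs2 : (q : ℝ) ^ 2 * s ^ 2 - 1 = (q * s - 1) * (q * s + 1) := by ring
      have hqs3 : (0 : ℝ) < (q * s - 1) * (q * s + 1) := mul_pos (by linarith) (by linarith)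
      rw [hx, hcQ, h2, hq1', div_mul_cancel₀]
      rw [hqs2]
      exact hqs3.ne'
    have h4 : x * ((q : ℝ) * s) * ((q : ℝ) * s - 1) = 0 := by
      linear_combination h3 + hx2
    have h5 : 0 < x * ((q : ℝ) * s) * ((q : ℝ) * s - 1) := by
      have : 1 < (q : ℝ) * s := by nlinarith
      have : 0 < (q : ℝ) * s - 1 := by linarith
      positivity
    linarith
  have hlih : LinearIndependent F ![p, p'] := by
    rw [LinearIndependent.pair_iff' hp0]
    rintro a rfl
    apply hpp'
    rw [map_smul, LinearMap.smul_apply, hB.self, smul_zero]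
  have hh := finrank_span_pair hlih
  have e3 := hqq _ hh
  rw [hsm, hsm, hfr _ hh, hh] at e3
  have hn0 : nn O (perp B (Submodule.span F {p, p'})) = 0 := by
    unfold nn
    rw [Set.ncard_eq_zero (Set.toFinite _)]
    ext v
    constructor
    · rintro ⟨h1, h2⟩
      have h3 := hperp p hp v h2 (h1 p (Submodule.subset_span (Or.inl rfl)))
      obtain ⟨a, rfl⟩ := Submodule.mem_span_singleton.1 h3
      have ha : a ≠ 0 := by
        rintro rfl
        rw [zero_smul] at h2
        exact hO.zero h2
      have h4 := h1 p' (Submodule.subset_span (Or.inr rfl))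
      rw [map_smul, LinearMap.smul_apply, smul_eq_zero] at h4
      exact hpp' (hB.swap_zero (h4.resolve_left ha))
    · exact fun h => h.elim
  have hn2 : 2 * (q - 1) ≤ nn O (Submodule.span F {p, p'}) := by
    have h1 : ((Submodule.span F {p} : Submodule F V) : Set V) ∩ O ∪
        ((Submodule.span F {p'} : Submodule F V) : Set V) ∩ O ⊆ ((Submodule.span F {p, p'} : Submodule F V) : Set V) ∩ O := by
      have h5 : Submodule.span F {p} ≤ Submodule.span F {p, p'} :=
        Submodule.span_mono (Set.singleton_subset_iff.2 (Or.inl rfl))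
      have h6 : Submodule.span F {p'} ≤ Submodule.span F {p, p'} :=
        Submodule.span_mono (Set.singleton_subset_iff.2 (Or.inr rfl))
      rintro v (⟨h1, h2⟩ | ⟨h1, h2⟩)
      · exact ⟨h5 h1, h2⟩
      · exact ⟨h6 h1, h2⟩
    have h2 := Set.ncard_le_ncard h1
    rw [Set.ncard_union_eq] at h2
    · have h3 : nn O (Submodule.span F {p}) = q - 1 := nn_span_of_mem hO hp
      have h4 : nn O (Submodule.span F {p'}) = q - 1 := nn_span_of_mem hO hp'
      unfold nn at h3 h4
      rw [h3, h4] at h2
      unfold nn
      omega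
    · rw [Set.disjoint_left]
      rintro v ⟨h3, h4⟩ ⟨h5, -⟩
      obtain ⟨a, rfl⟩ := Submodule.mem_span_singleton.1 h3
      obtain ⟨b, hb⟩ := Submodule.mem_span_singleton.1 h5
      have ha : a ≠ 0 := by
        rintro rfl
        rw [zero_smul] at h4
        exact hO.zero h4
      have h6 : B (b • p') p = 0 := by rw [hb, map_smul, LinearMap.smul_apply, hB.self, smul_zero]
      rw [map_smul, LinearMap.smul_apply, smul_eq_zero] at h6
      rcases h6 with h6 | h6
      · rw [h6, zero_smul] at hb
        exact (smul_ne_zero ha hp0) hb.symm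
      · exact hpp' h6
  rw [hn0, Nat.cast_zero, zero_sub] at e3
  have hn2' : 2 * ((q : ℝ) - 1) ≤ nn O (Submodule.span F {p, p'}) := by
    rw [← hq1']
    exact_mod_cast hn2
  set a : ℝ := (nn O (Submodule.span F {p, p'}) : ℝ) with ha
  have e4 : (q : ℝ) * (q - 1) ^ 2 = lam * ((q - 1) - a) := by
    linear_combination e2 - e3
  rw [hlam'] at e4
  have e5 : (q : ℝ) * ((q : ℝ) - 1) = s * (a - (q - 1)) := by
    have h1 : ((q : ℝ) - 1) * ((q : ℝ) * ((q : ℝ) - 1) - s * (a - (q - 1))) = 0 := by linear_combination e4
    have := (mul_eq_zero.1 h1).resolve_left (by linarith)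
    linarith
  have e6 : s * ((q : ℝ) - 1) ≤ s * (a - (q - 1)) := mul_le_mul_of_nonneg_left (by linarith) hspos.le
  have e7 : s ≤ q := by
    have h1 : s * ((q : ℝ) - 1) ≤ q * (q - 1) := by linarith
    exact le_of_mul_le_mul_right h1 (by linarith)
  nlinarith

end Cfsg.Agent.H91.ZeroB
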